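import Cfsg.Agent.Classification.TypeB.Core

/-!
# Type B: the final contradiction

`Fam.false_of_fused`: the family `M` of `TypeB.Core` does not exist if there is a proper subgroup `L` containing
`t`, `u`, `O_q(M_t)` and an element `g` with `t^g = u`, `u^g = t u`.
-/

set_option autoImplicit false

namespace Cfsg.Agent.Classification.TypeB.Chain

open Subgroup Cfsg
open Cfsg.Agent.Classification.TypeB.Basic Cfsg.Agent.Classification.TypeB.LemG
open Cfsg.Agent.Classification.TypeB.Core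
open Cfsg.Agent.OddOrderLocal.PiCoreOf
open Cfsg.Agent.OddOrderLocal
open Cfsg.Agent.OddOrderLocal.FitCores (isPGroup_piCoreOf le_core_of_le_fittingOf
  fittingOf_le_iff inf_centralizer_fittingOf_le le_core_of_isPGroup)

variable {G : Type*} [Group G]

/-- An ascending central chain of `A`, of normal subgroups of `L`. -/
structure CChain (L A : Subgroup G) (Z : ℕ → Subgroup G) : Prop where
  zero : Z 0 = ⊥
  le : ∀ i, Z i ≤ A
  norm : ∀ i, L ≤ normalizer (Z i : Set G)
  comm : ∀ i, ∀ x ∈ Z (i + 1), ∀ a ∈ A, x * a * x⁻¹ * a⁻¹ ∈ Z i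
  top : ∃ n, Z n = A
  mono : Monotone Z

theorem exists_chain [Finite G] {L A : Subgroup G} (hn : Group.IsNilpotent A)
    (hLA : L ≤ normalizer (A : Set G)) : ∃ Z : ℕ → Subgroup G, CChain L A Z := by
  refine ⟨fun i => (Subgroup.upperCentralSeries A i).map A.subtype, ?_, ?_, ?_, ?_, ?_, ?_⟩
  · simp
  · intro i
    exact map_subtype_le _
  · intro i x hx
    apply mem_normalizer_of_conj
    rintro _ ⟨y, hy, rfl⟩
    let φ : MulAut A := A.normalizerMonoidHom ⟨x, hLA hx⟩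
    have hφ : ((φ y : A) : G) = x * y * x⁻¹ := rfl
    refine ⟨φ y, ?_, hφ⟩
    have hc : (Subgroup.upperCentralSeries A i).Characteristic := inferInstance
    have h1 := (characteristic_iff_map_le.mp hc) φ
    exact h1 ⟨y, hy, rfl⟩
  · rintro i _ ⟨y, hy, rfl⟩ a ha
    refine ⟨y * ⟨a, ha⟩ * y⁻¹ * ⟨a, ha⟩⁻¹, ?_, rfl⟩
    exact (Subgroup.mem_upperCentralSeries_succ_iff.mp hy) ⟨a, ha⟩
  · obtain ⟨n, hn'⟩ := hn.nilpotent'
    refine ⟨n, ?_⟩
    change (Subgroup.upperCentralSeries A n).map A.subtype = A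
    rw [hn', ← MonoidHom.range_eq_map, Subgroup.range_subtype]
  · intro i j hij
    exact map_mono (Subgroup.upperCentralSeries_mono (↥A) hij)

variable [Finite G]

theorem mem_centralizer_mul {x v w : G} (h1 : x ∈ centralizer ({v} : Set G))
    (h2 : x ∈ centralizer ({w} : Set G)) : x ∈ centralizer ({v * w} : Set G) := by
  have h3 : Commute x v := mem_centralizer_iff'.mp h1
  have h4 : Commute x w := mem_centralizer_iff'.mp h2
  exact mem_centralizer_iff'.mpr (h3.mul_right h4).eq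

/-- `s` inverts `w`, commutes with `b` and with `[w, b]`, and `w` has odd order: `b` commutes with `w`. -/
theorem comm_of_inverts {K : Subgroup G} (hK : Odd (Nat.card K)) {s w b : G} (hw : w ∈ K)
    (h1 : s * w * s⁻¹ = w⁻¹) (h2 : s * b = b * s)
    (h3 : s * (w * b * w⁻¹ * b⁻¹) = (w * b * w⁻¹ * b⁻¹) * s) : w * b = b * w := by
  -- apply `s` to `[w, b]`
  have h4 : s * (w * b * w⁻¹ * b⁻¹) * s⁻¹ = w⁻¹ * b * w * b⁻¹ := by
    have h5 : s * (w * b * w⁻¹ * b⁻¹) * s⁻¹ =
        (s * w * s⁻¹) * (s * b * s⁻¹) * (s * w * s⁻¹)⁻¹ * (s * b * s⁻¹)⁻¹ := by group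
    rw [h5, h1, h2]; group
  have h5 : w * b * w⁻¹ * b⁻¹ = w⁻¹ * b * w * b⁻¹ := by
    rw [← h4, h3]; group
  have h6 : (w * w) * b = b * (w * w) := by
    have h7 : w * b * w⁻¹ = w⁻¹ * b * w := mul_right_cancel h5
    have h8 : (w * w) * b = w * (w * b * w⁻¹) * w := by group
    rw [h8, h7]; group
  -- `w` is a power of `w * w`
  obtain ⟨m, hm⟩ := hK
  have h7 : w = (w * w) ^ (m + 1) := by
    have h8 : w ^ Nat.card K = 1 := by
      have := pow_card_eq_one' (x := (⟨w, hw⟩ : K))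
      exact congrArg Subtype.val this
    rw [← pow_two, ← pow_mul, show 2 * (m + 1) = Nat.card K + 1 by omega, pow_succ, h8, one_mul]
  have h8 : Commute ((w * w) ^ (m + 1)) b := Commute.pow_left h6 _
  rw [← h7] at h8
  exact h8

/-- if `s` inverts no nontrivial element of `K` then `s` centralises `K`. -/
theorem le_centralizer_of_no_inverted {K : Subgroup G} {s : G} (hs : IsInv s)
    (hn : s ∈ normalizer (K : Set G)) (h : ∀ w ∈ K, s * w * s⁻¹ = w⁻¹ → w = 1) :
    K ≤ centralizer ({s} : Set G) := by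
  intro x hx
  have h1 : x⁻¹ * (s * x * s⁻¹) = 1 := by
    apply h _ (K.mul_mem (K.inv_mem hx) (conj_mem_of_mem_normalizer hn hx))
    have h2 : s * (x⁻¹ * (s * x * s⁻¹)) * s⁻¹ = (s * x⁻¹ * s⁻¹) * (s * s * x * (s * s)⁻¹) := by
      group
    rw [h2, hs.1]; group
  rw [inv_mul_eq_one, eq_mul_inv_iff_mul_eq] at h1
  exact mem_centralizer_iff'.mpr h1

section

variable {M : G → Subgroup G} {q : ℕ}

/-- `w` is good for `Z'` (inside `L`). -/
structure Good (M : G → Subgroup G) (q : ℕ) (L Z' : Subgroup G) (w : G) : Prop where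
  inv : IsInv w
  mem : w ∈ L
  le : piCoreOf {q} (M w) ≤ L
  disj : piCoreOf {q} (M w) ⊓ Z' = ⊥
  cent : yc q (M w) ≤ centralizer ({w} : Set G)

/-- `Z' ∩ M_w` centralises `O_q(M_w)`. -/
theorem Good.le_centralizer_core {L Z' : Subgroup G} {w : G} (hg : Good M q L Z' w)
    (hLZ : L ≤ normalizer (Z' : Set G)) :
    Z' ⊓ M w ≤ centralizer (piCoreOf {q} (M w) : Set G) := by
  intro x hx
  obtain ⟨hxZ, hxM⟩ := mem_inf.mp hx
  rw [mem_centralizer_iff]
  intro y hy
  have h1 : x * y * x⁻¹ * y⁻¹ ∈ piCoreOf {q} (M w) ⊓ Z' := by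
    refine mem_inf.mpr ⟨mul_mem (conj_mem_of_mem_normalizer (le_normalizer_piCoreOf _ _ hxM) hy)
      (inv_mem hy), ?_⟩
    have h2 : x * y * x⁻¹ * y⁻¹ = x * (y * x⁻¹ * y⁻¹) := by group
    rw [h2]
    exact Z'.mul_mem hxZ (conj_mem_of_mem_normalizer (hLZ (hg.le hy)) (Z'.inv_mem hxZ))
  rw [hg.disj, mem_bot] at h1
  have h3 : x * y = (x * y * x⁻¹ * y⁻¹) * (y * x) := by group
  rw [h1, one_mul] at h3
  exact h3.symm

/-- `Z' ∩ M_w` is centralised by `w`. -/
theorem Good.le_centralizer (h : Fam M q) {L Z' A : Subgroup G} {w : G} (hg : Good M q L Z' w)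
    (hA : IsPGroup q A) (hZA : Z' ≤ A) (hLZ : L ≤ normalizer (Z' : Set G)) :
    Z' ⊓ M w ≤ centralizer ({w} : Set G) := by
  haveI := Fact.mk h.prime
  have hw := hg.inv
  set D : Subgroup G := Z' ⊓ M w with hD
  have hDp : IsPGroup q D := (hA.to_le hZA).to_le inf_le_left
  have hDo : Odd (Nat.card D) := odd_of_isPGroup h.prime h.odd hDp
  have hwD : w ∈ normalizer (D : Set G) := by
    apply mem_normalizer_of_conj
    rintro y ⟨hy1, hy2⟩
    exact mem_inf.mpr ⟨conj_mem_of_mem_normalizer (hLZ hg.mem) hy1,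
      (M w).mul_mem ((M w).mul_mem (h.mem hw) hy2) ((M w).inv_mem (h.mem hw))⟩
  have hDR : D ≤ oc (M w) := h.nil w hw D inf_le_right hDo
  set X : Subgroup G := ⁅D, zpowers w⁆ with hX
  have hXD : X ≤ D := comm_le hwD
  -- `X` centralises `Y_w`
  have hXY : X ≤ centralizer (yc q (M w) : Set G) := by
    rw [hX, commutator_le]
    intro d hd a ha
    have haC : a ∈ centralizer (yc q (M w) : Set G) :=
      (zpowers_le_centralizer_iff.mpr hg.cent) ha
    have hdN : d ∈ normalizer (yc q (M w) : Set G) := le_normalizer_yc _ _ (inf_le_right (a := Z') hd)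
    rw [commutatorElement_def]
    refine mul_mem ?_ (inv_mem haC)
    rw [mem_centralizer_iff]
    intro y hy
    have h1 : d⁻¹ * y * d ∈ yc q (M w) := by
      have := conj_mem_of_mem_normalizer (inv_mem hdN) hy
      simpa using this
    have h2 := mem_centralizer_iff.mp haC _ h1
    have h3 : y * (d * a * d⁻¹) = d * ((d⁻¹ * y * d) * a) * d⁻¹ := by group
    rw [h3, h2]; group
  have hXQ : X ≤ centralizer (piCoreOf {q} (M w) : Set G) :=
    hXD.trans (hg.le_centralizer_core hLZ)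
  have hXF : X ≤ centralizer (fittingOf (oc (M w)) : Set G) := by
    rw [le_centralizer_iff, fittingOf_le_iff]
    intro r hr
    haveI := Fact.mk hr
    have hPM : piCoreOf {r} (oc (M w)) ≤ piCoreOf {r} (M w) := by
      refine le_core_of_isPGroup hr ((piCoreOf_le _ _).trans (oc_le _)) ?_ (isPGroup_piCoreOf hr _)
      exact (le_normalizer_oc _).trans (normalizer_le_normalizer_piCoreOf _ _)
    by_cases hrq : r = q
    · subst hrq
      rw [le_centralizer_iff]
      exact hXQ.trans (centralizer_le hPM)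
    · rw [le_centralizer_iff]
      refine hXY.trans (centralizer_le ?_)
      refine FitCores.le_core_of_coprime (piCoreOf_le _ _) (le_normalizer_piCoreOf _ _) ?_
      exact FitCores.coprime_of_isPGroup hr
        (fun h3 => hrq ((Nat.prime_dvd_prime_iff_eq hr h.prime).mp h3)) (isPGroup_piCoreOf hr _)
  have h1 : X ≤ fittingOf (oc (M w)) :=
    (le_inf (hXD.trans hDR) hXF).trans (inf_centralizer_fittingOf_le (h.solv _ (odd_oc _)))
  have h2 : X ≤ piCoreOf {q} (oc (M w)) := le_core_of_le_fittingOf h.prime h1 (hDp.to_le hXD)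
  have h3 : X ≤ piCoreOf {q} (M w) := by
    refine h2.trans (le_core_of_isPGroup h.prime ((piCoreOf_le _ _).trans (oc_le _)) ?_
      (isPGroup_piCoreOf h.prime _))
    exact (le_normalizer_oc _).trans (normalizer_le_normalizer_piCoreOf _ _)
  have h4 : X = ⊥ := by
    rw [eq_bot_iff, ← hg.disj]
    exact le_inf h3 (hXD.trans inf_le_left)
  exact comm_eq_bot_iff.mp h4


/-- (b), the core of the induction step. -/
theorem Good.eq_one (h : Fam M q) {L Z' A : Subgroup G} (hL : L ≠ ⊤) {Z : ℕ → Subgroup G}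
    (hZ : CChain L (piCoreOf {q} L) Z) {w₁ w₂ : G} (h1 : Good M q L Z' w₁)
    (h2 : Good M q L Z' w₂) (hc : w₁ * w₂ = w₂ * w₁) (hne : w₁ ≠ w₂) {j : ℕ}
    (hj1 : Z j ≤ centralizer ({w₁} : Set G)) (hj2 : Z j ≤ centralizer ({w₂} : Set G))
    (hA : IsPGroup q A) (hZA : Z' ≤ A) (hLZ : L ≤ normalizer (Z' : Set G))
    (hj : Z (j + 1) ≤ Z') {x : G} (hx : x ∈ Z (j + 1)) (hx2 : x * w₂ = w₂ * x)
    (hx1 : w₁ * x * w₁⁻¹ = x⁻¹) : x = 1 := by
  haveI := Fact.mk h.prime
  have hi1 := h1.inv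
  have hi2 := h2.inv
  have hZo : Odd (Nat.card Z') := odd_of_isPGroup h.prime h.odd (hA.to_le hZA)
  have hxZ : x ∈ Z' := hj hx
  have hE1Q : ec q (M w₁) w₁ ≤ piCoreOf {q} (M w₁) := h.ec_le hi1
  have hE1A : ec q (M w₁) w₁ ≤ piCoreOf {q} L := h.ec_le_core hi1 hL h1.mem (hE1Q.trans h1.le)
  have hcomm : ∀ b ∈ ec q (M w₁) w₁, x * b * x⁻¹ * b⁻¹ ∈ Z j := fun b hb =>
    hZ.comm j x hx b (hE1A hb)
  have hc1 : ∀ b ∈ ec q (M w₁) w₁, b * w₁ = w₁ * b → b ∈ centralizer ({x} : Set G) := by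
    intro b hb hbw
    rw [mem_centralizer_iff']
    exact (comm_of_inverts hZo hxZ hx1 hbw.symm
      (mem_centralizer_iff'.mp (hj1 (hcomm b hb))).symm).symm
  have hE1 : ec q (M w₁) w₁ ≤ centralizer ({x} : Set G) := by
    refine le_of_four (h.odd_ec hi1) hi1 hi2 hc (h.mem_normalizer_ec hi1 rfl)
      (h.mem_normalizer_ec hi1 hc) ?_ ?_ ?_
    · rintro b ⟨hb, hbw⟩
      exact hc1 b hb (mem_centralizer_iff'.mp hbw)
    · -- the part centralised by `w₂`
      set K : Subgroup G := ec q (M w₁) w₁ ⊓ centralizer ({w₂} : Set G) with hK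
      have hKn : w₁ ∈ normalizer (K : Set G) := by
        apply mem_normalizer_of_conj
        rintro y ⟨hy1, hy2⟩
        refine mem_inf.mpr ⟨conj_mem_of_mem_normalizer (h.mem_normalizer_ec hi1 rfl) hy1, ?_⟩
        have h3 : w₁ ∈ centralizer ({w₂} : Set G) := mem_centralizer_iff'.mpr hc
        exact mul_mem (mul_mem h3 hy2) (inv_mem h3)
      refine le_of_split (odd_of_le inf_le_left (h.odd_ec hi1)) hi1 hKn ?_ ?_
      · have h3 : ⁅K, zpowers w₁⁆ ≤ piCoreOf {q} (M w₂) := by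
          refine (commutator_mono (le_inf (inf_le_left.trans hE1Q)
            (inf_le_right.trans (h.cent w₂ hi2))) le_rfl).trans
            (h.bal q h.prime h.odd w₁ hi1 (M w₂) (h.ne_top hi2) (h.mem_of_comm hi2 hc.symm))
        refine h3.trans ?_
        have h4 : x ∈ Z' ⊓ M w₂ := mem_inf.mpr ⟨hxZ, h.mem_of_comm hi2 hx2.symm⟩
        intro y hy
        rw [mem_centralizer_iff']
        exact mem_centralizer_iff.mp (h2.le_centralizer_core hLZ h4) y hy
      · rintro b ⟨⟨hb, -⟩, hbw⟩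
        exact hc1 b hb (mem_centralizer_iff'.mp hbw)
    · rintro b ⟨hb, hbw⟩
      rw [mem_centralizer_iff']
      have h3 : w₁ * w₂ * x * (w₁ * w₂)⁻¹ = x⁻¹ := by
        have h4 : w₁ * w₂ * x * (w₁ * w₂)⁻¹ = w₁ * (w₂ * x * w₂⁻¹) * w₁⁻¹ := by group
        rw [h4, ← hx2, mul_inv_cancel_right, hx1]
      have h4 : x * b * x⁻¹ * b⁻¹ ∈ centralizer ({w₁ * w₂} : Set G) :=
        mem_centralizer_mul (hj1 (hcomm b hb)) (hj2 (hcomm b hb))
      exact (comm_of_inverts hZo hxZ h3 (mem_centralizer_iff'.mp hbw).symm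
        (mem_centralizer_iff'.mp h4).symm).symm
  have hxM : x ∈ M w₁ := by
    refine h.norm w₁ hi1 (centralizer_le_normalizer _ ?_)
    rw [mem_centralizer_iff]
    intro b hb
    exact mem_centralizer_iff'.mp (hE1 hb)
  have hxc : x ∈ centralizer ({w₁} : Set G) :=
    h1.le_centralizer h hA hZA hLZ (mem_inf.mpr ⟨hxZ, hxM⟩)
  have h3 : x = x⁻¹ := by
    rw [← hx1, ← mem_centralizer_iff'.mp hxc, mul_inv_cancel_right]
  apply eq_one_of_sq hZo hxZ
  nth_rewrite 2 [h3]
  exact mul_inv_cancel x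

/-- `Good` for the product, as a package: the three involutions of a four-group. -/
structure Four (M : G → Subgroup G) (q : ℕ) (L Z' : Subgroup G) (t u : G) : Prop where
  one : Good M q L Z' t
  two : Good M q L Z' u
  three : Good M q L Z' (t * u)
  comm : t * u = u * t
  ne : t ≠ u

/-- (b): `V` centralises `Z'`. -/
theorem Four.le_centralizer (h : Fam M q) {L : Subgroup G} (hL : L ≠ ⊤) {Z : ℕ → Subgroup G}
    (hZ : CChain L (piCoreOf {q} L) Z) {t u : G} {k : ℕ} (hf : Four M q L (Z k) t u) :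
    ∀ j ≤ k, Z j ≤ centralizer ({t} : Set G) ∧ Z j ≤ centralizer ({u} : Set G) := by
  intro j
  induction j with
  | zero =>
    intro _
    rw [hZ.zero]
    exact ⟨bot_le, bot_le⟩
  | succ j ih =>
    intro hjk
    obtain ⟨hjt, hju⟩ := ih (by omega)
    have ht := hf.one.inv
    have hu := hf.two.inv
    have hApg : IsPGroup q (piCoreOf {q} L) := isPGroup_piCoreOf h.prime L
    have hZo : ∀ i, Odd (Nat.card (Z i)) := fun i =>
      odd_of_isPGroup h.prime h.odd (hApg.to_le (hZ.le i))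
    have hjtu : Z j ≤ centralizer ({t * u} : Set G) := by
      intro x hx
      exact mem_centralizer_mul (hjt hx) (hju hx)
    have hnorm : ∀ {w₁ w₂ : G}, w₁ ∈ L → w₁ * w₂ = w₂ * w₁ →
        w₁ ∈ normalizer ((Z (j + 1) ⊓ centralizer ({w₂} : Set G) : Subgroup G) : Set G) := by
      intro w₁ w₂ hw hc
      apply mem_normalizer_of_conj
      rintro y ⟨hy1, hy2⟩
      refine mem_inf.mpr ⟨conj_mem_of_mem_normalizer (hZ.norm _ hw) hy1, ?_⟩
      have h3 : w₁ ∈ centralizer ({w₂} : Set G) := mem_centralizer_iff'.mpr hc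
      exact mul_mem (mul_mem h3 hy2) (inv_mem h3)
    have key : ∀ {w₁ w₂ : G}, Good M q L (Z k) w₁ → Good M q L (Z k) w₂ →
        w₁ * w₂ = w₂ * w₁ → w₁ ≠ w₂ → Z j ≤ centralizer ({w₁} : Set G) →
        Z j ≤ centralizer ({w₂} : Set G) →
        Z (j + 1) ⊓ centralizer ({w₂} : Set G) ≤ centralizer ({w₁} : Set G) := by
      intro w₁ w₂ h1 h2 hc hne hj1 hj2
      refine le_centralizer_of_no_inverted h1.inv (hnorm h1.mem hc) ?_
      rintro x ⟨hx, hx2⟩ hx1
      exact Good.eq_one h hL hZ h1 h2 hc hne hj1 hj2 hApg (hZ.le k) (hZ.norm k) (hZ.mono hjk) hx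
        (mem_centralizer_iff'.mp hx2) hx1
    have h3 : t * (t * u) = t * u * t := by rw [mul_assoc, hf.comm]
    have h4 : u * (t * u) = t * u * u := by rw [← mul_assoc, hf.comm]
    have h5 : t ≠ t * u := fun h6 => hu.2 (mul_eq_left.mp h6.symm)
    have h6 : u ≠ t * u := fun h6 => ht.2 (mul_eq_right.mp h6.symm)
    refine ⟨le_of_four (hZo _) ht hu hf.comm (hZ.norm _ hf.one.mem) (hZ.norm _ hf.two.mem)
      inf_le_right (key hf.one hf.two hf.comm hf.ne hjt hju)
      (key hf.one hf.three h3 h5 hjt hjtu), ?_⟩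
    exact le_of_four (hZo _) ht hu hf.comm (hZ.norm _ hf.one.mem) (hZ.norm _ hf.two.mem)
      (key hf.two hf.one hf.comm.symm hf.ne.symm hju hjt) inf_le_right
      (key hf.two hf.three h4 h6 hju hjtu)

/-- (c1): `A ∩ M_w` centralises `Q_w ∩ Z_{k+1}`. -/
theorem Good.inf_le_centralizer {L : Subgroup G} {Z : ℕ → Subgroup G}
    (hZ : CChain L (piCoreOf {q} L) Z) {w : G} {k : ℕ} (hg : Good M q L (Z k) w) :
    piCoreOf {q} L ⊓ M w ≤
      centralizer ((piCoreOf {q} (M w) ⊓ Z (k + 1) : Subgroup G) : Set G) := by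
  rintro a ⟨haA, haM⟩
  rw [mem_centralizer_iff]
  rintro x ⟨hxQ, hxZ⟩
  have h1 : x * a * x⁻¹ * a⁻¹ ∈ piCoreOf {q} (M w) ⊓ Z k := by
    refine mem_inf.mpr ⟨?_, hZ.comm k x hxZ a haA⟩
    have h2 : x * a * x⁻¹ * a⁻¹ = x * (a * x⁻¹ * a⁻¹) := by group
    rw [h2]
    exact mul_mem hxQ (conj_mem_of_mem_normalizer (le_normalizer_piCoreOf _ _ haM) (inv_mem hxQ))
  rw [hg.disj, mem_bot] at h1
  have h3 : x * a = (x * a * x⁻¹ * a⁻¹) * (a * x) := by group
  rw [h1, one_mul] at h3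
  exact h3

/-- `E_w ≤ A ∩ M_w` -/
theorem Good.ec_le (h : Fam M q) {L Z' : Subgroup G} (hL : L ≠ ⊤) {w : G}
    (hg : Good M q L Z' w) : ec q (M w) w ≤ piCoreOf {q} L ⊓ M w :=
  le_inf (h.ec_le_core hg.inv hL hg.mem ((h.ec_le hg.inv).trans hg.le))
    ((h.ec_le hg.inv).trans (piCoreOf_le _ _))

/-- (c2), a pair: `C_K(w) ≤ C(t)` for `K = Q_t ∩ Z_{k+1}`. -/
theorem Good.inf_centralizer_le (h : Fam M q) {L : Subgroup G} (hL : L ≠ ⊤) {Z : ℕ → Subgroup G}
    (hZ : CChain L (piCoreOf {q} L) Z) {t w : G} {k : ℕ} (hg : Good M q L (Z k) t)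
    (hg2 : Good M q L (Z k) w) (hc : t * w = w * t) (hne : t ≠ w) :
    (piCoreOf {q} (M t) ⊓ Z (k + 1)) ⊓ centralizer ({w} : Set G) ≤
      centralizer ({t} : Set G) := by
  have ht := hg.inv
  have hw := hg2.inv
  set K : Subgroup G := piCoreOf {q} (M t) ⊓ Z (k + 1) with hK
  set C : Subgroup G := K ⊓ centralizer ({w} : Set G) with hC
  have hnC : ∀ x : G, x ∈ L → t * x = x * t → w * x = x * w → x ∈ normalizer (C : Set G) := by
    intro x hxL hx hwx
    apply mem_normalizer_of_conj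
    rintro y ⟨⟨hyP, hyZ⟩, hyw⟩
    refine mem_inf.mpr ⟨mem_inf.mpr ⟨conj_mem_of_mem_normalizer
      (le_normalizer_piCoreOf _ _ (h.mem_of_comm ht hx)) hyP,
      conj_mem_of_mem_normalizer (hZ.norm _ hxL) hyZ⟩, ?_⟩
    have h2 : x ∈ centralizer ({w} : Set G) := mem_centralizer_iff'.mpr hwx.symm
    exact mul_mem (mul_mem h2 hyw) (inv_mem h2)
  have htC : t ∈ normalizer (C : Set G) := hnC t hg.mem rfl hc.symm
  have hwC : w ∈ normalizer (C : Set G) := hnC w hg2.mem hc rfl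
  by_contra hcon
  set X : Subgroup G := ⁅C, zpowers t⁆ with hX
  have hX1 : X ≠ ⊥ := fun h1 => hcon (comm_eq_bot_iff.mp h1)
  have hXC : X ≤ C := comm_le htC
  have hXK : X ≤ K := hXC.trans inf_le_left
  have hXQw : X ≤ piCoreOf {q} (M w) :=
    (commutator_mono (le_inf (inf_le_left.trans inf_le_left)
      (inf_le_right.trans (h.cent w hw))) le_rfl).trans
      (h.bal q h.prime h.odd t ht (M w) (h.ne_top hw) (h.mem_of_comm hw hc.symm))
  have hXp : IsPGroup q X := (isPGroup_piCoreOf h.prime (M t)).to_le (hXK.trans inf_le_left)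
  have hle : ∀ Y : Subgroup G, Y ≤ centralizer (X : Set G) → Y ≤ normalizer (X : Set G) :=
    fun Y hY => hY.trans (centralizer_le_normalizer _)
  refine h.no_overgroup ht hw hc hne (h.normalizer_ne_top ht hX1
    (odd_of_isPGroup h.prime h.odd hXp)) ?_ ?_ (hle _ ?_) (hle _ ?_) (hle _ ?_)
  · exact Lib.CoprimeCommutator.right_le_normalizer_commutator _ _ (mem_zpowers t)
  · apply mem_normalizer_of_conj
    intro x hx
    have h1 : ⁅C, zpowers t⁆ ≤ (⁅C, zpowers t⁆).comap (MulAut.conj w).toMonoidHom := by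
      rw [commutator_le]
      intro a ha b hb
      rw [mem_comap, map_commutatorElement]
      refine commutator_mem_commutator (conj_mem_of_mem_normalizer hwC ha) ?_
      obtain ⟨n, rfl⟩ := hb
      have h2 : Commute w t := hc.symm
      have h3 : w * t ^ n * w⁻¹ = t ^ n := by
        rw [(h2.zpow_right n).eq]; group
      change w * t ^ n * w⁻¹ ∈ _
      rw [h3]
      exact ⟨n, rfl⟩
    exact h1 hx
  · exact (hg.ec_le h hL).trans ((hg.inf_le_centralizer hZ).trans (centralizer_le hXK))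
  · exact (hg2.ec_le h hL).trans ((hg2.inf_le_centralizer hZ).trans
      (centralizer_le (le_inf hXQw (hXK.trans inf_le_right))))
  · have h1 := h.core_le_centralizer_yc t
    rw [le_centralizer_iff] at h1
    exact h1.trans (centralizer_le (hXK.trans inf_le_left))

/-- (c2): `t` centralises `K = Q_t ∩ Z_{k+1}`. -/
theorem Four.core_le_centralizer (h : Fam M q) {L : Subgroup G} (hL : L ≠ ⊤)
    {Z : ℕ → Subgroup G} (hZ : CChain L (piCoreOf {q} L) Z) {t u : G} {k : ℕ}
    (hf : Four M q L (Z k) t u) :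
    piCoreOf {q} (M t) ⊓ Z (k + 1) ≤ centralizer ({t} : Set G) := by
  have ht := hf.one.inv
  have hu := hf.two.inv
  have hn : ∀ x : G, x ∈ L → t * x = x * t →
      x ∈ normalizer ((piCoreOf {q} (M t) ⊓ Z (k + 1) : Subgroup G) : Set G) := by
    intro x hxL hx
    apply mem_normalizer_of_conj
    rintro y ⟨hyP, hyZ⟩
    exact mem_inf.mpr ⟨conj_mem_of_mem_normalizer
      (le_normalizer_piCoreOf _ _ (h.mem_of_comm ht hx)) hyP,
      conj_mem_of_mem_normalizer (hZ.norm _ hxL) hyZ⟩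
  have h3 : t * (t * u) = t * u * t := by rw [mul_assoc, hf.comm]
  have h5 : t ≠ t * u := fun h6 => hu.2 (mul_eq_left.mp h6.symm)
  exact le_of_four (odd_of_le inf_le_left (odd_of_isPGroup h.prime h.odd (h.isPGroup_core t)))
    ht hu hf.comm (hn t hf.one.mem rfl) (hn u hf.two.mem hf.comm) inf_le_right
    (hf.one.inf_centralizer_le h hL hZ hf.two hf.comm hf.ne)
    (hf.one.inf_centralizer_le h hL hZ hf.three h3 h5)

/-- (d): the contradiction. -/
theorem Four.core_eq_bot (h : Fam M q) {L : Subgroup G} (hL : L ≠ ⊤)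
    {Z : ℕ → Subgroup G} (hZ : CChain L (piCoreOf {q} L) Z) {t u : G} {k : ℕ}
    (hf : Four M q L (Z k) t u) : piCoreOf {q} (M t) ⊓ Z (k + 1) = ⊥ := by
  have ht := hf.one.inv
  have hu := hf.two.inv
  have hc := hf.comm
  set K : Subgroup G := piCoreOf {q} (M t) ⊓ Z (k + 1) with hK
  have hKp : IsPGroup q K := (h.isPGroup_core t).to_le inf_le_left
  have hKo : Odd (Nat.card K) := odd_of_isPGroup h.prime h.odd hKp
  have hKt : K ≤ centralizer ({t} : Set G) := hf.core_le_centralizer h hL hZ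
  obtain ⟨hZt, hZu⟩ := hf.le_centralizer h hL hZ k le_rfl
  have hKn : ∀ x : G, x ∈ L → t * x = x * t → x ∈ normalizer (K : Set G) := by
    intro x hxL hx
    apply mem_normalizer_of_conj
    rintro y ⟨hyP, hyZ⟩
    exact mem_inf.mpr ⟨conj_mem_of_mem_normalizer
      (le_normalizer_piCoreOf _ _ (h.mem_of_comm ht hx)) hyP,
      conj_mem_of_mem_normalizer (hZ.norm _ hxL) hyZ⟩
  have hEt : ec q (M t) t ≤ centralizer (K : Set G) :=
    (hf.one.ec_le h hL).trans (hf.one.inf_le_centralizer hZ)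
  have hYt : yc q (M t) ≤ centralizer (K : Set G) := by
    have h1 := h.core_le_centralizer_yc t
    rw [le_centralizer_iff] at h1
    exact h1.trans (centralizer_le inf_le_left)
  have hEuA : ec q (M u) u ≤ piCoreOf {q} L := (hf.two.ec_le h hL).trans inf_le_left
  have hle : ∀ {X : Subgroup G} {Y : Subgroup G}, Y ≤ centralizer (X : Set G) →
      Y ≤ normalizer (X : Set G) := fun hY => hY.trans (centralizer_le_normalizer _)
  -- (d1) `C_K(u) = 1`
  have hd1 : K ⊓ centralizer ({u} : Set G) = ⊥ := by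
    by_contra hX1
    set X : Subgroup G := K ⊓ centralizer ({u} : Set G) with hX
    have hXo : Odd (Nat.card X) := odd_of_le inf_le_left hKo
    have hXEu : ec q (M u) u ≤ centralizer (X : Set G) := by
      rw [← h.comm_ec hu, commutator_le]
      intro b hb a ha
      rw [mem_centralizer_iff]
      intro x hx
      have hxZ : x ∈ Z (k + 1) := (inf_le_right : K ≤ _) ((inf_le_left : X ≤ K) hx)
      have hxu : x * u = u * x := mem_centralizer_iff'.mp ((inf_le_right : X ≤ _) hx)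
      have hxa : x * a = a * x := by
        obtain ⟨n, rfl⟩ := ha
        have h2 : Commute x u := hxu
        exact (h2.zpow_right n).eq
      have hcZ : x * b⁻¹ * x⁻¹ * b⁻¹⁻¹ ∈ Z k := hZ.comm k x hxZ b⁻¹ (inv_mem (hEuA hb))
      set c : G := x * b⁻¹ * x⁻¹ * b⁻¹⁻¹ with hcdef
      have hca : c * a = a * c := by
        obtain ⟨n, rfl⟩ := ha
        have h2 : Commute c u := mem_centralizer_iff'.mp (hZu hcZ)
        exact (h2.zpow_right n).eq
      -- `x b⁻¹ x⁻¹ = c b⁻¹`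
      have h3 : x * b⁻¹ * x⁻¹ = c * b⁻¹ := by rw [hcdef]; group
      have h4 : x * b * x⁻¹ = b * c⁻¹ := by
        have h5 : x * b * x⁻¹ = (x * b⁻¹ * x⁻¹)⁻¹ := by group
        rw [h5, h3]; group
      rw [commutatorElement_def]
      have h5 : x * (b * a * b⁻¹ * a⁻¹) * x⁻¹ =
          (x * b * x⁻¹) * (x * a * x⁻¹) * (x * b⁻¹ * x⁻¹) * (x * a * x⁻¹)⁻¹ := by group
      have h6 : x * a * x⁻¹ = a := by rw [hxa, mul_inv_cancel_right]
      have h7 : x * (b * a * b⁻¹ * a⁻¹) * x⁻¹ = b * a * b⁻¹ * a⁻¹ := by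
        rw [h5, h4, h6, h3]
        have h8 : b * c⁻¹ * a * (c * b⁻¹) * a⁻¹ = b * c⁻¹ * (a * c) * b⁻¹ * a⁻¹ := by group
        rw [h8, ← hca]; group
      exact mul_inv_eq_iff_eq_mul.mp h7
    refine h.no_overgroup ht hu hc hf.ne (h.normalizer_ne_top ht hX1 hXo) ?_ ?_ (hle ?_)
      (hle hXEu) (hle ?_)
    · refine hle (X := X) (Y := zpowers t) ?_ (mem_zpowers t)
      rw [zpowers_le_centralizer_iff]
      exact inf_le_left.trans hKt
    · refine hle (X := X) (Y := zpowers u) ?_ (mem_zpowers u)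
      rw [zpowers_le_centralizer_iff]
      exact inf_le_right
    · exact hEt.trans (centralizer_le inf_le_left)
    · exact hYt.trans (centralizer_le inf_le_left)
  -- (d2)
  by_contra hK1
  have huK : u ∈ normalizer (K : Set G) := hKn u hf.two.mem hc
  have hinv : ∀ x ∈ K, u * x * u⁻¹ = x⁻¹ := fun x hx =>
    inverts_of_fixedPointFree hu huK hd1 hx
  have hZtu : Z k ≤ centralizer ({u * t} : Set G) := by
    intro x hx
    exact mem_centralizer_mul (hZu hx) (hZt hx)
  have hEu : ec q (M u) u ≤ centralizer (K : Set G) := by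
    have hcomm : ∀ x ∈ K, ∀ b ∈ ec q (M u) u, x * b * x⁻¹ * b⁻¹ ∈ Z k := fun x hx b hb =>
      hZ.comm k x ((inf_le_right : K ≤ _) hx) b (hEuA hb)
    have hcu : ∀ b ∈ ec q (M u) u, b * u = u * b → b ∈ centralizer (K : Set G) := by
      intro b hb hbu
      rw [mem_centralizer_iff]
      intro x hx
      exact comm_of_inverts hKo hx (hinv x hx) hbu.symm
        (mem_centralizer_iff'.mp (hZu (hcomm x hx b hb))).symm
    refine le_of_four (h.odd_ec hu) hu ht hc.symm (h.mem_normalizer_ec hu rfl)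
      (h.mem_normalizer_ec hu hc.symm) ?_ ?_ ?_
    · rintro b ⟨hb, hbu⟩
      exact hcu b hb (mem_centralizer_iff'.mp hbu)
    · set C : Subgroup G := ec q (M u) u ⊓ centralizer ({t} : Set G) with hC
      have hCn : u ∈ normalizer (C : Set G) := by
        apply mem_normalizer_of_conj
        rintro y ⟨hy1, hy2⟩
        refine mem_inf.mpr ⟨conj_mem_of_mem_normalizer (h.mem_normalizer_ec hu rfl) hy1, ?_⟩
        have h3 : u ∈ centralizer ({t} : Set G) := mem_centralizer_iff'.mpr hc.symm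
        exact mul_mem (mul_mem h3 hy2) (inv_mem h3)
      refine le_of_split (odd_of_le inf_le_left (h.odd_ec hu)) hu hCn ?_ ?_
      · have h3 : ⁅C, zpowers u⁆ ≤ M t := (comm_le hCn).trans (inf_le_right.trans (h.cent t ht))
        have h4 : ⁅C, zpowers u⁆ ≤ piCoreOf {q} L := (comm_le hCn).trans (inf_le_left.trans hEuA)
        exact (le_inf h4 h3).trans (hf.one.inf_le_centralizer hZ)
      · rintro b ⟨⟨hb, -⟩, hbu⟩
        exact hcu b hb (mem_centralizer_iff'.mp hbu)
    · rintro b ⟨hb, hbu⟩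
      rw [mem_centralizer_iff]
      intro x hx
      have h3 : u * t * x * (u * t)⁻¹ = x⁻¹ := by
        have h4 : u * t * x * (u * t)⁻¹ = u * (t * x * t⁻¹) * u⁻¹ := by group
        rw [h4, ← mem_centralizer_iff'.mp (hKt hx), mul_inv_cancel_right, hinv x hx]
      exact comm_of_inverts hKo hx h3 (mem_centralizer_iff'.mp hbu).symm
        (mem_centralizer_iff'.mp (hZtu (hcomm x hx b hb))).symm
  refine h.no_overgroup ht hu hc hf.ne (h.normalizer_ne_top ht hK1 hKo)
    (hKn t hf.one.mem rfl) huK (hle hEt) (hle hEu) (hle hYt)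

/-- `E_w ≠ 1` -/
theorem Fam.ec_ne_bot (h : Fam M q) {w : G} (hw : IsInv w) : ec q (M w) w ≠ ⊥ := by
  intro h1
  have h2 := h.norm w hw
  rw [h1] at h2
  apply h.ne_top hw
  rw [eq_top_iff]
  refine le_trans ?_ h2
  intro x _
  apply mem_normalizer_of_conj
  intro y hy
  rw [mem_bot] at hy ⊢
  rw [hy]; group

/-- **Type B is impossible**, given a fused four-group inside a proper subgroup containing `O_q(M_t)`. -/
theorem Fam.false_of_fused (h : Fam M q) {t u : G} (ht : IsInv t) (hu : IsInv u)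
    (hc : t * u = u * t) (hne : t ≠ u) {L : Subgroup G} (hL : L ≠ ⊤) (htL : t ∈ L)
    (hQ : piCoreOf {q} (M t) ≤ L) {g : G} (hg : g ∈ L) (h1 : g * t * g⁻¹ = u)
    (h2 : g * u * g⁻¹ = t * u) : False := by
  classical
  haveI := Fact.mk h.prime
  have hApg : IsPGroup q (piCoreOf {q} L) := isPGroup_piCoreOf h.prime L
  obtain ⟨Z, hZ⟩ := exists_chain (L := L) (A := piCoreOf {q} L) hApg.isNilpotent
    (le_normalizer_piCoreOf _ _)
  have huL : u ∈ L := by
    rw [← h1]; exact L.mul_mem (L.mul_mem hg htL) (L.inv_mem hg)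
  have hEtA : ec q (M t) t ≤ piCoreOf {q} L := h.ec_le_core ht hL htL ((h.ec_le ht).trans hQ)
  have hex : ∃ n, piCoreOf {q} (M t) ⊓ Z n ≠ ⊥ := by
    obtain ⟨n, hn⟩ := hZ.top
    refine ⟨n, fun h3 => Fam.ec_ne_bot h ht ?_⟩
    rw [eq_bot_iff, ← h3, hn]
    exact le_inf (h.ec_le ht) hEtA
  obtain ⟨k, hk, hk'⟩ : ∃ k, piCoreOf {q} (M t) ⊓ Z k = ⊥ ∧
      piCoreOf {q} (M t) ⊓ Z (k + 1) ≠ ⊥ := by
    have h3 := Nat.find_spec hex
    have h4 : Nat.find hex ≠ 0 := by
      intro h5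
      rw [h5, hZ.zero] at h3
      exact h3 (inf_bot_eq _)
    obtain ⟨k, hk⟩ := Nat.exists_eq_succ_of_ne_zero h4
    refine ⟨k, ?_, by rwa [hk] at h3⟩
    have h5 := Nat.find_min hex (m := k) (by omega)
    exact not_not.mp h5
  have hstep : ∀ w : G, IsInv w → piCoreOf {q} (M w) ≤ L → piCoreOf {q} (M w) ⊓ Z k = ⊥ →
      piCoreOf {q} (M (g * w * g⁻¹)) ≤ L ∧ piCoreOf {q} (M (g * w * g⁻¹)) ⊓ Z k = ⊥ := by
    intro w hw hwL hwZ
    rw [h.core_conj hw]
    constructor
    · rintro _ ⟨x, hx, rfl⟩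
      exact L.mul_mem (L.mul_mem hg (hwL hx)) (L.inv_mem hg)
    · rw [eq_bot_iff]
      rintro _ ⟨⟨x, hx, rfl⟩, hxZ⟩
      have h3 : g * x * g⁻¹ ∈ Z k := hxZ
      have h4 : x ∈ Z k := (mem_normalizer_iff.mp (hZ.norm k hg) x).mpr h3
      have h5 : x ∈ piCoreOf {q} (M w) ⊓ Z k := mem_inf.mpr ⟨hx, h4⟩
      rw [hwZ, mem_bot] at h5
      rw [h5, map_one]
      exact one_mem _
  have hsu := hstep t ht hQ hk
  rw [h1] at hsu
  have hsv := hstep u hu hsu.1 hsu.2
  rw [h2] at hsv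
  have h3 : t * (t * u) = t * u * t := by rw [mul_assoc, hc]
  have h5 : t ≠ t * u := fun h6 => hu.2 (mul_eq_left.mp h6.symm)
  have hf : Four M q L (Z k) t u :=
    ⟨⟨ht, htL, hQ, hk, h.yc_le_centralizer ht hu hc hne⟩,
      ⟨hu, huL, hsu.1, hsu.2, h.yc_le_centralizer hu ht hc.symm hne.symm⟩,
      ⟨ht.mul hu hc hne, L.mul_mem htL huL, hsv.1, hsv.2,
        h.yc_le_centralizer (ht.mul hu hc hne) ht h3.symm h5.symm⟩, hc, hne⟩
  exact hk' (hf.core_eq_bot h hL hZ)

end

end Cfsg.Agent.Classification.TypeB.Chain
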