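import Cfsg.Agent.Classification.TypeB.Basic
import Cfsg.Agent.Classification.DihStructure
import Cfsg.Agent.TwoFusion.OddAut
import Cfsg.Agent.S0071

/-!
# Fused four-groups in groups without normal 2-complement
-/

set_option autoImplicit false

namespace Cfsg.Agent.Classification.TypeB.Fused

open Subgroup
open Cfsg.Agent.Classification.TypeB.Basic
open Cfsg.Agent.Classification.DihedralCentral Cfsg.Agent.Classification.TransferSign
open Cfsg.Agent.Classification.DihReduction
open Cfsg.Agent.TwoFusion.OddAut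

/-- A normal subgroup of odd order and 2-power index gives `OddClosed`. -/
theorem oddClosed_of_normal {L : Type*} [Group L] [Finite L] (N : Subgroup L) (hN : N.Normal)
    (hodd : Odd (Nat.card N)) {k : ℕ} (hk : N.index = 2 ^ k) : OddClosed L := by
  have key : ∀ x : L, Odd (orderOf x) → x ∈ N := by
    intro x hx
    have h1 : orderOf (QuotientGroup.mk' N x) ∣ 2 ^ k := by
      rw [← hk]; exact orderOf_dvd_natCard _
    have h2 : orderOf (QuotientGroup.mk' N x) ∣ orderOf x := orderOf_map_dvd _ x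
    have h3 : Nat.Coprime (orderOf x) (2 ^ k) :=
      Nat.Coprime.pow_right _ (Nat.coprime_two_right.mpr hx)
    have h4 := Nat.dvd_gcd h2 h1
    rw [h3.gcd_eq_one, Nat.dvd_one, orderOf_eq_one_iff] at h4
    exact (QuotientGroup.eq_one_iff x).mp h4
  intro x y hx hy
  have h1 : x * y ∈ N := N.mul_mem (key x hx) (key y hy)
  have h2 : orderOf (⟨x * y, h1⟩ : N) ∣ Nat.card N := orderOf_dvd_natCard _
  rw [← Subgroup.orderOf_coe] at h2
  exact hodd.of_dvd_nat h2

/-- At most four elements. -/
theorem mem_four {L : Type*} [Group L] [Finite L] {Q : Subgroup L} (hQ : Nat.card Q ≤ 4)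
    {a b : L} (ha : a ∈ Q) (hb : b ∈ Q) (ha1 : a ≠ 1) (hb1 : b ≠ 1) (hab : a ≠ b)
    (hbb : b * b = 1) {x : L} (hx : x ∈ Q) : x = 1 ∨ x = a ∨ x = b ∨ x = a * b := by
  classical
  by_contra hcon
  push Not at hcon
  obtain ⟨h1, h2, h3, h4⟩ := hcon
  have hab1 : a * b ≠ 1 := by
    intro h
    apply hab
    have h5 : a * b = b * b := by rw [h, hbb]
    exact mul_right_cancel h5
  have haba : a * b ≠ a := fun h => hb1 (mul_eq_left.mp h)
  have habb : a * b ≠ b := fun h => ha1 (mul_eq_right.mp h)
  have := Fintype.ofFinite Q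
  have h5 : ({⟨1, Q.one_mem⟩, ⟨a, ha⟩, ⟨b, hb⟩, ⟨a * b, Q.mul_mem ha hb⟩, ⟨x, hx⟩} :
      Finset Q).card ≤ Fintype.card Q := Finset.card_le_univ _
  rw [← Nat.card_eq_fintype_card] at h5
  rw [Finset.card_insert_of_notMem, Finset.card_insert_of_notMem, Finset.card_insert_of_notMem,
    Finset.card_insert_of_notMem, Finset.card_singleton] at h5
  · omega
  · simp only [Finset.mem_singleton, Subtype.mk.injEq]
    exact fun h => h4 h.symm
  · simp only [Finset.mem_insert, Finset.mem_singleton, Subtype.mk.injEq, not_or]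
    exact ⟨fun h => habb h.symm, fun h => h3 h.symm⟩
  · simp only [Finset.mem_insert, Finset.mem_singleton, Subtype.mk.injEq, not_or]
    exact ⟨hab, fun h => haba h.symm, fun h => h2 h.symm⟩
  · simp only [Finset.mem_insert, Finset.mem_singleton, Subtype.mk.injEq, not_or]
    exact ⟨fun h => ha1 h.symm, fun h => hb1 h.symm, fun h => hab1 h.symm, fun h => h1 h.symm⟩

/-- `SubDihedral` and not `OddClosed`: a four-group containing the central involution `t` of the Sylow
`2`-subgroup is permuted transitively by some element. -/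
theorem exists_fused {L : Type*} [Group L] [Finite L] (hL : SubDihedral L) (hno : ¬ OddClosed L)
    (S : Sylow 2 L) {t : L} (htS : t ∈ (S : Subgroup L)) (ht : IsInv t)
    (htc : ∀ s ∈ (S : Subgroup L), s * t = t * s) :
    ∃ u g : L, IsInv u ∧ t * u = u * t ∧ t ≠ u ∧ g * t * g⁻¹ = u ∧ g * u * g⁻¹ = t * u := by
  classical
  haveI : Fact (Nat.Prime 2) := ⟨Nat.prime_two⟩
  -- Frobenius
  obtain ⟨Q, hQS, g, hgN, hgodd, hgC⟩ : ∃ Q : Subgroup L, Q ≤ (S : Subgroup L) ∧
      ∃ g ∈ normalizer (Q : Set L), Odd (orderOf g) ∧ g ∉ centralizer (Q : Set L) := by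
    by_contra hcon
    push Not at hcon
    apply hno
    obtain ⟨N, hN, hc⟩ := (S0071.result S).mpr (fun Q hQ g hg hcop =>
      hcon Q hQ g hg (Nat.coprime_two_right.mp hcop))
    obtain ⟨k, hk⟩ := IsPGroup.iff_card.mp S.2
    have h1 : Nat.card N = (S : Subgroup L).index := by
      rw [hc.index_eq_card]
    have h2 : N.index = 2 ^ k := by rw [hc.symm.index_eq_card, hk]
    refine oddClosed_of_normal N hN ?_ h2
    rw [h1, ← Nat.not_even_iff_odd, even_iff_two_dvd]
    exact S.not_dvd_index
  have hQ2 : IsPGroup 2 Q := S.2.to_le hQS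
  obtain ⟨m, hm⟩ := IsPGroup.iff_card.mp hQ2
  set A : L → L := fun x => g * x * g⁻¹ with hA
  have hAit : ∀ (n : ℕ) (x : L), A^[n] x = g ^ n * x * (g ^ n)⁻¹ := by
    intro n
    induction n with
    | zero => intro x; simp
    | succ n ih =>
      intro x
      rw [Function.iterate_succ_apply', ih, hA]
      simp only [pow_succ']
      group
  have hodd : IsOddAut Q A := by
    refine ⟨fun x hx => conj_mem_of_mem_normalizer hgN hx, fun x _ y _ => ?_,
      orderOf g, hgodd, fun x _ => ?_⟩
    · simp only [hA]; group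
    · rw [hAit, pow_orderOf_eq_one]; group
  have h2pow : ∀ x ∈ Q, x ^ 2 ^ m = 1 := by
    intro x hx
    have h3 := pow_card_eq_one' (x := (⟨x, hx⟩ : Q))
    rw [hm] at h3
    exact congrArg Subtype.val h3
  have hnfix : ¬ ∀ x ∈ Q, A x = x := by
    intro h
    apply hgC
    rw [mem_centralizer_iff]
    intro x hx
    exact (mul_inv_eq_iff_eq_mul.mp (h x hx)).symm
  obtain ⟨R, hR, hRQ⟩ := hL Q hQ2
  -- exponent two
  have hsq : ∀ x ∈ Q, x * x = 1 := by
    have hRc : IsCyclic R := hR
    have hc : IsCyclic (Q ⊓ R : Subgroup L) := Subgroup.isCyclic_of_le inf_le_right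
    obtain ⟨⟨r, hrQR⟩, hr⟩ := hc.exists_generator
    have hrQ : r ∈ Q := hrQR.1
    have hrR : r ∈ R := hrQR.2
    have hgen : ∀ y ∈ Q, y ∈ R → y ∈ zpowers r := by
      intro y hy hyR
      obtain ⟨k, hk⟩ := Subgroup.mem_zpowers_iff.1 (hr ⟨y, hy, hyR⟩)
      exact ⟨k, congrArg Subtype.val hk⟩
    by_cases hrr : r * r = 1
    · intro x hx
      by_cases hxR : x ∈ R
      · obtain ⟨k, hk⟩ := hgen x hx hxR
        have hk' : r ^ k = x := hk
        rw [← hk', ← (Commute.refl r).mul_zpow, hrr, one_zpow]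
      · exact (hRQ x hx hxR).1
    · exfalso
      have hArR : A r ∈ R := by
        by_contra h
        have h3 := (hRQ (A r) (hodd.mem r hrQ) h).1
        rw [← hodd.mul r hrQ r hrQ, ← hodd.one] at h3
        exact hrr (hodd.inj (Q.mul_mem hrQ hrQ) Q.one_mem h3)
      obtain ⟨j, hj⟩ := hgen (A r) (hodd.mem r hrQ) hArR
      have hj' : r ^ j = A r := hj
      have hAr : A r = r := by
        have h3 : A r = r * r ^ (j - 1) := by
          rw [← hj', ← zpow_one_add]; congr 1; ring
        have h4 : A (r ^ (j - 1)) = (r ^ (j - 1)) ^ j := by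
          rw [hodd.zpow hrQ, ← hj', ← zpow_mul, ← zpow_mul, mul_comm]
        have h5 := hodd.eq_one_of_eq_mul hrQ (Q.zpow_mem hrQ _) h3 h4
          (h2pow _ (Q.zpow_mem hrQ _))
        rw [h3, h5, mul_one]
      have hAR : ∀ x ∈ Q, x ∈ R → A x = x := by
        intro x hx hxR
        obtain ⟨k, hk⟩ := hgen x hx hxR
        have hk' : r ^ k = x := hk
        rw [← hk', hodd.zpow hrQ, hAr]
      apply hnfix
      intro x hx
      by_cases hxR : x ∈ R
      · exact hAR x hx hxR
      · have hAxR : A x ∉ R := by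
          intro h
          have h3 := hAR (A x) (hodd.mem x hx) h
          exact hxR ((hodd.inj (hodd.mem x hx) hx h3) ▸ h)
        have hk : x * A x ∈ R := (hRQ x hx hxR).2 (A x) (hodd.mem x hx) hAxR
        have hkQ : x * A x ∈ Q := Q.mul_mem hx (hodd.mem x hx)
        have h3 : A x = x * (x * A x) := by
          rw [← mul_assoc, (hRQ x hx hxR).1, one_mul]
        have h4 := hodd.fix_of_eq_mul hx hkQ h3 (hAR _ hkQ hk) (h2pow _ hkQ)
        rw [h3, h4, mul_one]
  have hcommQ : ∀ x ∈ Q, ∀ y ∈ Q, x * y = y * x := by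
    intro x hx y hy
    have h3 := hsq _ (Q.mul_mem hx hy)
    have h4 : x * y = y⁻¹ * x⁻¹ := by
      rw [← mul_inv_rev]
      exact eq_inv_of_mul_eq_one_left h3
    rw [h4, inv_eq_of_mul_eq_one_left (hsq x hx), inv_eq_of_mul_eq_one_left (hsq y hy)]
  have hQ4 : Nat.card Q ≤ 4 := card_le_four hL Q hsq
  -- no fixed points
  have hno_fix : ∀ w ∈ Q, w ≠ 1 → A w ≠ w := by
    intro w hw hw1 hAw
    apply hnfix
    intro y hy
    by_cases hy1 : y = 1
    · rw [hy1, hodd.one]
    by_cases hyw : y = w
    · rw [hyw, hAw]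
    rcases mem_four hQ4 hy hw hy1 hw1 hyw (hsq w hw) (hodd.mem y hy) with h3 | h3 | h3 | h3
    · exact absurd (hodd.inj hy Q.one_mem (h3.trans hodd.one.symm)) hy1
    · exact h3
    · exact absurd (hodd.inj hy hw (h3.trans hAw.symm)) hyw
    · exact absurd (hodd.fix_of_eq_mul hy hw h3 hAw (h2pow w hw)) hw1
  -- `t ∈ Q`
  have hcommt : ∀ x ∈ Q, x * t = t * x := fun x hx => htc x (hQS hx)
  have htQ : t ∈ Q := by
    by_contra htQ
    obtain ⟨w, hw, hw1⟩ : ∃ w ∈ Q, w ≠ 1 := by
      by_contra hcon
      push Not at hcon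
      apply hnfix
      intro x hx
      rw [hcon x hx, hodd.one]
    let E : Subgroup L :=
      { carrier := {x | x ∈ Q ∨ t * x ∈ Q}
        one_mem' := Or.inl Q.one_mem
        mul_mem' := by
          rintro x y (hx | hx) (hy | hy)
          · exact Or.inl (Q.mul_mem hx hy)
          · right
            rw [← mul_assoc, ← hcommt x hx, mul_assoc]
            exact Q.mul_mem hx hy
          · right
            rw [← mul_assoc]
            exact Q.mul_mem hx hy
          · left
            have h3 : t * x * (t * y) = x * y := by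
              rw [← mul_assoc, hcommt _ hx, ← mul_assoc, ht.1, one_mul]
            rw [← h3]
            exact Q.mul_mem hx hy
        inv_mem' := by
          rintro x (hx | hx)
          · exact Or.inl (Q.inv_mem hx)
          · right
            have h3 : t * x⁻¹ = (t * x)⁻¹ := by
              have h4 : t * (t * x) = x := by rw [← mul_assoc, ht.1, one_mul]
              have h5 : x * t = t * x := by
                have h6 := hcommt _ hx
                rw [mul_assoc] at h6
                exact mul_left_cancel h6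
              rw [mul_inv_rev, ht.inv_eq]
              rw [eq_comm, inv_mul_eq_iff_eq_mul, ← mul_assoc, h5, mul_inv_cancel_right]
            rw [h3]
            exact Q.inv_mem hx }
    have hE : ∀ x ∈ E, x * x = 1 := by
      rintro x (hx | hx)
      · exact hsq x hx
      · have h3 := hsq _ hx
        have h4 : t * x * (t * x) = x * x := by
          rw [← mul_assoc, hcommt _ hx, ← mul_assoc, ht.1, one_mul]
        rw [← h4, h3]
    have hE4 := card_le_four hL E hE
    have htE : t ∈ E := Or.inr (by rw [ht.1]; exact Q.one_mem)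
    have hAw : A w ∈ Q := hodd.mem w hw
    have hAw1 : A w ≠ 1 := fun h => hw1 (hodd.inj hw Q.one_mem (h.trans hodd.one.symm))
    rcases mem_four hE4 (Or.inl hw : w ∈ E) (Or.inl hAw : A w ∈ E) hw1 hAw1
      (hno_fix w hw hw1).symm (hsq _ hAw) htE with h3 | h3 | h3 | h3
    · exact ht.2 h3
    · exact htQ (h3 ▸ hw)
    · exact htQ (h3 ▸ hAw)
    · exact htQ (h3 ▸ Q.mul_mem hw hAw)
  set u : L := A t with hu
  have huQ : u ∈ Q := hodd.mem t htQ
  have hut : u ≠ t := hno_fix t htQ ht.2
  have hu1 : u ≠ 1 := fun h => ht.2 (hodd.inj htQ Q.one_mem (h.trans hodd.one.symm))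
  refine ⟨u, g, ⟨hsq u huQ, hu1⟩, hcommQ t htQ u huQ, hut.symm, rfl, ?_⟩
  change A u = t * u
  rcases mem_four hQ4 htQ huQ ht.2 hu1 hut.symm (hsq u huQ) (hodd.mem u huQ) with h3 | h3 | h3 | h3
  · exact absurd (hodd.inj huQ Q.one_mem (h3.trans hodd.one.symm)) hu1
  · exfalso
    refine hno_fix (t * u) (Q.mul_mem htQ huQ) ?_ ?_
    · intro h4
      apply hut
      have h5 : t * u = t * t := by rw [h4, ht.1]
      exact mul_left_cancel h5
    · rw [hodd.mul t htQ u huQ, h3, ← hu, hcommQ t htQ u huQ]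
  · exact absurd h3 (hno_fix u huQ hu1)
  · exact h3

end Cfsg.Agent.Classification.TypeB.Fused
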