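import Cfsg.Agent.Classification.TypeB.SigA7
import Cfsg.Agent.Classification.TypeB.Core
import Cfsg.Agent.Classification.GWDefs

/-!
# The signalizer condition (S)

`sig_of_subAlt`: if every proper subgroup `H` of the `SubDihedral` group `G` has the structure given by
the Gorenstein–Walter theorem, `w ∈ H` an involution, `B ≤ H` of odd order with `C_H(w) ≤ N(B)`, then
`[B, w] ≤ O(H)`.
-/

set_option autoImplicit false
set_option maxHeartbeats 400000

namespace Cfsg.Agent.Classification.TypeB.Sig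

open Subgroup Cfsg.Agent.Classification.TypeB.Basic Cfsg.Agent.Classification.TypeB.Core
open Cfsg.Agent.Classification.DihedralCentral Cfsg.Agent.Classification.DihReduction
open Cfsg.Agent.Classification.DihMinimal Cfsg.Agent.Classification.GWDefs
open Cfsg.Agent.Classification.TypeB.SigA7 (mem_normalizer_comm)
open Cfsg.Agent.Classification.TypeB.Fused (mem_four)
open Cfsg.Agent.OddOrderLocal.PiCoreOf
open Cfsg.Agent.OddOrderLocal
open Cfsg.Agent.OddOrderLocal.FitCores (isPGroup_piCoreOf fittingOf_le_iff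
  le_centralizer_of_centralizes_fitting)

/-- reduction of (S) to `r`-subgroups of `L`. -/
theorem core {Y : Type*} [Group Y] [Finite Y]
    (hsolv : ∀ X : Subgroup Y, Odd (Nat.card X) → Group.IsSolvable X) {L : Subgroup Y} {w : Y}
    (hw : IsInv w) (hD : ∀ y z : Y, y * z * y⁻¹ * z⁻¹ ∈ L)
    (hR : ∀ r : ℕ, r.Prime → r ≠ 2 → ∀ B : Subgroup Y, B ≤ L → IsPGroup r B →
      centralizer ({w} : Set Y) ≤ normalizer (B : Set Y) → B ≤ centralizer ({w} : Set Y))
    {B : Subgroup Y} (hB : Odd (Nat.card B))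
    (hN : centralizer ({w} : Set Y) ≤ normalizer (B : Set Y)) :
    B ≤ centralizer ({w} : Set Y) := by
  have hwB : w ∈ normalizer (B : Set Y) := hN (mem_centralizer_iff'.mpr rfl)
  obtain ⟨D, hDdef⟩ : ∃ D, D = ⁅B, zpowers w⁆ := ⟨_, rfl⟩
  have hDB : D ≤ B := by rw [hDdef]; exact comm_le hwB
  have hDo := odd_of_le hDB hB
  have hDD : ⁅D, zpowers w⁆ = D := by rw [hDdef]; exact comm_comm hB hw hwB
  have hDL : D ≤ L := by
    rw [hDdef, commutator_le]
    intro a _ b _
    exact hD a b
  have hND : centralizer ({w} : Set Y) ≤ normalizer (D : Set Y) := by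
    intro x hx
    rw [hDdef]
    exact mem_normalizer_comm (mem_centralizer_iff'.mp hx) (hN hx)
  have key : zpowers w ≤ centralizer (D : Set Y) := by
    apply le_centralizer_of_centralizes_fitting
    · rw [zpowers_le]
      exact hND (mem_centralizer_iff'.mpr rfl)
    · exact hsolv D hDo
    · exact coprime_of_odd hDo hw
    · rw [zpowers_le_centralizer_iff, fittingOf_le_iff]
      intro r hr
      by_cases hr2 : r = 2
      · subst hr2
        have h1 : piCoreOf {2} D = ⊥ := by
          obtain ⟨k, hk⟩ := (IsPGroup.iff_card (p := 2)).mp (isPGroup_piCoreOf Nat.prime_two D)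
          have h2 := odd_of_le (piCoreOf_le {2} D) hDo
          rw [hk] at h2
          have h3 : k = 0 := by
            by_contra h4
            exact (Nat.not_even_iff_odd.mpr h2) ((Nat.even_pow.mpr ⟨even_two, h4⟩))
          rw [h3, pow_zero, Subgroup.card_eq_one] at hk
          exact hk
        rw [h1]; exact bot_le
      · refine hR r hr hr2 _ ((piCoreOf_le _ _).trans hDL) (isPGroup_piCoreOf hr D) ?_
        exact hND.trans (normalizer_le_normalizer_piCoreOf _ _)
  rw [zpowers_le_centralizer_iff, ← comm_eq_bot_iff, hDD] at key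
  rw [← comm_eq_bot_iff, ← hDdef, key]

theorem klein_sq {Y : Type*} [Group Y] {V : Subgroup Y} (hV : IsKleinFour V) {x : Y} (hx : x ∈ V) :
    x * x = 1 := by
  have h1 : (⟨x, hx⟩ : V) * ⟨x, hx⟩ = 1 := IsKleinFour.mul_self _
  exact congrArg Subtype.val h1

theorem klein_comm {Y : Type*} [Group Y] {V : Subgroup Y} (hV : IsKleinFour V) {x y : Y}
    (hx : x ∈ V) (hy : y ∈ V) : x * y = y * x := by
  have h1 := klein_sq hV (V.mul_mem hx hy)
  have h2 := klein_sq hV hx
  have h3 := klein_sq hV hy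
  calc x * y = (x * x) * (x * y) * (y * y) := by rw [h2, h3]; group
    _ = x * (x * y * (x * y)) * y := by
      rw [h1, mul_one]
      calc x * x * (x * y) * (y * y) = (x * x) * (x * y) * (y * y) := rfl
        _ = x * y := by rw [h2, h3, one_mul, mul_one]
    _ = (x * x) * (y * x) * (y * y) := by group
    _ = y * x := by rw [h2, h3]; group

/-- a normal self-centralising four-group. -/
theorem eq_bot_of_klein {Y : Type*} [Group Y] [Finite Y] {V : Subgroup Y} (hVn : V.Normal)
    (hV : IsKleinFour V) (hC : centralizer (V : Set Y) = V) {w : Y} (hw : IsInv w)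
    {B : Subgroup Y} (hB : Odd (Nat.card B))
    (hN : centralizer ({w} : Set Y) ≤ normalizer (B : Set Y)) : B = ⊥ := by
  have hcard : Nat.card V = 4 := IsKleinFour.card_four
  have hnt : ∃ v0 ∈ V, v0 ≠ 1 := by
    by_contra hcon
    push Not at hcon
    have : V = ⊥ := by
      rw [eq_bot_iff]
      intro x hx
      exact mem_bot.mpr (hcon x hx)
    rw [this, card_bot] at hcard
    omega
  obtain ⟨v, hv, hv1, hvw⟩ : ∃ v ∈ V, v ≠ 1 ∧ v * w = w * v := by
    obtain ⟨v0, hv0, hv01⟩ := hnt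
    have hv2 : w * v0 * w⁻¹ ∈ V := hVn.conj_mem v0 hv0 w
    by_cases h : v0 * (w * v0 * w⁻¹) = 1
    · refine ⟨v0, hv0, hv01, ?_⟩
      have h1 := klein_sq hV hv0
      have h2 : w * v0 * w⁻¹ = v0 := by
        have h3 : v0 * (v0 * (w * v0 * w⁻¹)) = v0 := by rw [h, mul_one]
        rw [← mul_assoc, h1, one_mul] at h3
        exact h3
      calc v0 * w = (w * v0 * w⁻¹) * w := by rw [h2]
        _ = w * v0 := by group
    · refine ⟨v0 * (w * v0 * w⁻¹), V.mul_mem hv0 hv2, h, ?_⟩
      have h1 := klein_comm hV hv0 hv2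
      have hwi := hw.inv_eq
      calc v0 * (w * v0 * w⁻¹) * w = (w * v0 * w⁻¹) * v0 * w := by rw [h1]
        _ = w * v0 * w⁻¹ * v0 * w := rfl
        _ = w * v0 * w * v0 * w⁻¹ := by rw [hwi]
        _ = w * (v0 * (w * v0 * w⁻¹)) := by group
  have hvN : v ∈ normalizer (B : Set Y) := hN (mem_centralizer_iff'.mpr hvw)
  have hbv : ∀ b ∈ B, v * b = b * v := by
    intro b hb
    have h1 : v * b * v⁻¹ * b⁻¹ ∈ B := B.mul_mem (conj_mem_of_mem_normalizer hvN hb) (B.inv_mem hb)
    have h2 : v * b * v⁻¹ * b⁻¹ ∈ V := by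
      have h3 : v * b * v⁻¹ * b⁻¹ = v * (b * v⁻¹ * b⁻¹) := by group
      rw [h3]
      exact V.mul_mem hv (hVn.conj_mem _ (V.inv_mem hv) b)
    have h3 := eq_one_of_sq hB h1 (klein_sq hV h2)
    calc v * b = (v * b * v⁻¹ * b⁻¹) * (b * v) := by group
      _ = b * v := by rw [h3, one_mul]
  -- another element
  obtain ⟨u, hu, hu1, huv⟩ : ∃ u ∈ V, u ≠ 1 ∧ u ≠ v := by
    by_contra hcon
    push Not at hcon
    have h1 : V ≤ zpowers v := by
      intro x hx
      by_cases hx1 : x = 1
      · rw [hx1]; exact one_mem _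
      · rw [hcon x hx hx1]; exact mem_zpowers v
    have h2 := card_le_of_le h1
    rw [Nat.card_zpowers, orderOf_eq_prime (by rw [sq]; exact klein_sq hV hv) hv1, hcard] at h2
    omega
  have h4 : ∀ x ∈ V, x = 1 ∨ x = v ∨ x = u ∨ x = v * u := fun x hx =>
    mem_four hcard.le hv hu hv1 hu1 (Ne.symm huv) (klein_sq hV hu) hx
  rw [eq_bot_iff]
  intro b hb
  rw [mem_bot]
  have hbvb : b * v * b⁻¹ = v := by rw [← hbv b hb]; group
  have hbu : b * (b * u * b⁻¹) * b⁻¹ = u := by
    rcases h4 _ (hVn.conj_mem u hu b) with h | h | h | h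
    · exact absurd (conj_eq_one_iff.mp h) hu1
    · exfalso
      apply huv
      calc u = b⁻¹ * (b * u * b⁻¹) * b := by group
        _ = b⁻¹ * (b * v * b⁻¹) * b := by rw [h, hbvb]
        _ = v := by group
    · rw [h, h]
    · rw [h]
      have e1 : b * (v * u) * b⁻¹ = (b * v * b⁻¹) * (b * u * b⁻¹) := by group
      rw [e1, hbvb, h, ← mul_assoc, klein_sq hV hv, one_mul]
  have hbb : b * b ∈ centralizer (V : Set Y) := by
    rw [mem_centralizer_iff]
    intro x hx
    have hcu : u * (b * b) = (b * b) * u := by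
      calc u * (b * b) = (b * (b * u * b⁻¹) * b⁻¹) * (b * b) := by rw [hbu]
        _ = (b * b) * u := by group
    have hcv : v * (b * b) = (b * b) * v := by
      rw [← mul_assoc, hbv b hb, mul_assoc, hbv b hb, mul_assoc]
    rcases h4 x hx with rfl | rfl | rfl | rfl
    · rw [one_mul, mul_one]
    · exact hcv
    · exact hcu
    · rw [mul_assoc, hcu, ← mul_assoc, hcv, mul_assoc]
  rw [hC] at hbb
  have h5 := eq_one_of_sq hB (B.mul_mem hb hb) (klein_sq hV hbb)
  exact eq_one_of_sq hB hb h5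

/-- (S) in a core-free group. -/
theorem of_dihAlt {Y : Type*} [Group Y] [Finite Y] (hY : SubDihedral Y)
    (hsolv : ∀ X : Subgroup Y, Odd (Nat.card X) → Group.IsSolvable X) (h : DihAlt Y) {w : Y}
    (hw : IsInv w) {B : Subgroup Y} (hB : Odd (Nat.card B))
    (hN : centralizer ({w} : Set Y) ≤ normalizer (B : Set Y)) :
    B ≤ centralizer ({w} : Set Y) := by
  rcases h with h | ⟨V, hVn, hV, hC, _⟩ | ⟨L, hLn, hs, hC, _, hgw, _⟩
  · have : B = ⊥ := by
      have h1 : IsPGroup 2 B := h.to_subgroup B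
      obtain ⟨k, hk⟩ := IsPGroup.iff_card.mp h1
      rw [hk] at hB
      have h3 : k = 0 := by
        by_contra h4
        exact (Nat.not_even_iff_odd.mpr hB) ((Nat.even_pow.mpr ⟨even_two, h4⟩))
      rw [h3, pow_zero, Subgroup.card_eq_one] at hk
      exact hk
    rw [this]; exact bot_le
  · rw [eq_bot_of_klein hVn hV hC hw hB hN]
    exact bot_le
  · rcases hgw with ⟨F, _, _, hodd, h3, ⟨e⟩⟩ | ⟨e⟩
    · -- `PSL(2, F)`
      have h2 : (2 : F) ≠ 0 := by
        intro h2
        have hc : CharP F 2 := by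
          have := CharTwo.of_one_ne_zero_of_two_eq_zero (R := F) one_ne_zero h2
          exact this
        have h5 : (Fintype.card F : F) = 0 := Nat.cast_card_eq_zero F
        have h6 := (CharP.cast_eq_zero_iff F 2 _).mp h5
        exact (Nat.not_even_iff_odd.mpr hodd) (even_iff_two_dvd.mpr h6)
      obtain ⟨π, hπ, hk⟩ : ∃ π : Matrix.SpecialLinearGroup (Fin 2) F →* L,
          Function.Surjective π ∧
          π.ker = Subgroup.center (Matrix.SpecialLinearGroup (Fin 2) F) := by
        refine ⟨e.symm.toMonoidHom.comp (QuotientGroup.mk' _), ?_, ?_⟩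
        · exact e.symm.surjective.comp (QuotientGroup.mk'_surjective _)
        · ext x
          rw [MonoidHom.mem_ker]
          change e.symm (QuotientGroup.mk x) = 1 ↔ _
          rw [map_eq_one_iff e.symm e.symm.injective]
          exact QuotientGroup.eq_one_iff x
      apply core hsolv hw (L := L) (fun y z => SigPSL.commutator_le hC π hπ hk y z) _ hB hN
      intro r hr hr2 D hDL hD hND
      by_cases hD1 : D = ⊥
      · rw [hD1]; exact bot_le
      have : Fact r.Prime := ⟨hr⟩
      have : Nontrivial D := (nontrivial_iff_ne_bot D).mpr hD1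
      have hnt := hD.center_nontrivial
      obtain ⟨⟨b, hb⟩, hb1⟩ := exists_ne (1 : Subgroup.center D)
      refine SigPSL.le_centralizer hY h2 h3 hC π hπ hk hw hDL (odd_of_isPGroup hr hr2 hD)
        (b := b) b.2 (fun h => hb1 (Subtype.ext (Subtype.ext h))) ?_ hND
      intro x hx
      have := (mem_center_iff.mp hb) ⟨x, hx⟩
      exact congrArg Subtype.val this
    · obtain ⟨e⟩ := e
      obtain ⟨hL, hA⟩ := SigA7.main hY hC e
      apply core hsolv hw (L := L) (fun y z => by rw [hL]; exact mem_top _) _ hB hN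
      intro r hr hr2 D _ hD hND
      exact hA w hw r hr hr2 D hD hND

/-- an element `h` of `H` with `[h, w] ∈ N` lies in `N C(w)`. -/
theorem exists_mul_of_commutator {H : Type*} [Group H] [Finite H] {N : Subgroup H}
    (hN : Odd (Nat.card N)) {w h : H} (hw : IsInv w) (hh : h * w * h⁻¹ * w⁻¹ ∈ N) :
    ∃ n ∈ N, (n⁻¹ * h) * w = w * (n⁻¹ * h) := by
  obtain ⟨z, hz⟩ : ∃ z, z = h * w * h⁻¹ * w⁻¹ := ⟨_, rfl⟩
  rw [← hz] at hh
  have ho := SigPSL.odd_orderOf hN hh
  obtain ⟨k, hk⟩ := ho
  have hwi := hw.inv_eq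
  have hinv : w * z * w⁻¹ = z⁻¹ := by
    rw [hz]
    have e1 : (h * w * h⁻¹ * w⁻¹)⁻¹ = w * (h * w⁻¹ * h⁻¹) := by group
    rw [e1, hwi]
    calc w * (h * w * h⁻¹ * w) * w = w * (h * w * h⁻¹) * (w * w) := by group
      _ = w * (h * w * h⁻¹) := by rw [hw.1, mul_one]
  have hinvp : ∀ j : ℕ, w * z ^ j * w⁻¹ = (z ^ j)⁻¹ := by
    intro j
    rw [← conj_pow, hinv, inv_pow]
  refine ⟨z ^ (k + 1), N.pow_mem hh _, ?_⟩
  have h1 : z ^ (k + 1) * w * (z ^ (k + 1))⁻¹ = h * w * h⁻¹ := by
    have e1 : w * (z ^ (k + 1))⁻¹ = z ^ (k + 1) * w := by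
      have e2 := hinvp (k + 1)
      calc w * (z ^ (k + 1))⁻¹ = w * (w * z ^ (k + 1) * w⁻¹) := by rw [e2]
        _ = (w * w) * z ^ (k + 1) * w⁻¹ := by group
        _ = z ^ (k + 1) * w := by rw [hw.1, one_mul, hwi]
    rw [mul_assoc, e1, ← mul_assoc, ← pow_add]
    have e3 : k + 1 + (k + 1) = orderOf z + 1 := by omega
    rw [e3, pow_succ, pow_orderOf_eq_one, one_mul, hz]
    group
  calc (z ^ (k + 1))⁻¹ * h * w = (z ^ (k + 1))⁻¹ * (h * w * h⁻¹) * h := by group
    _ = (z ^ (k + 1))⁻¹ * (z ^ (k + 1) * w * (z ^ (k + 1))⁻¹) * h := by rw [h1]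
    _ = w * ((z ^ (k + 1))⁻¹ * h) := by group

/-- (S) for `H` from the structure of `H / N`, `N` normal of odd order. -/
theorem sig_of_quotient {G : Type*} [Group G] [Finite G] (hG : SubDihedral G)
    (hsolv : ∀ X : Subgroup G, Odd (Nat.card X) → Group.IsSolvable X) {w : G} (hw : IsInv w)
    {H : Subgroup G} {N : Subgroup H} [hNn : N.Normal] (hNo : Odd (Nat.card N))
    (hA' : DihAlt (H ⧸ N)) (hwH : w ∈ H) {B : Subgroup G} (hBH : B ≤ H)
    (hB : Odd (Nat.card B))
    (hN : H ⊓ centralizer ({w} : Set G) ≤ normalizer (B : Set G)) :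
    ⁅B, zpowers w⁆ ≤ oc H := by
  have hHs : SubDihedral H := subDihedral_of_injective H.subtype H.subtype_injective hG
  have hYs : SubDihedral (H ⧸ N) := subDihedral_quotient hHs N hNo
  obtain ⟨w', hw'⟩ : ∃ w' : H, w' = ⟨w, hwH⟩ := ⟨_, rfl⟩
  have hwv : (w' : G) = w := by rw [hw']
  have hw'i : IsInv w' := ⟨Subtype.ext (by rw [Subgroup.coe_mul, hwv, hw.1]; rfl), fun h => hw.2 (by
    rw [← hwv, h]; rfl)⟩
  have hwY : IsInv (QuotientGroup.mk' N w') := by
    constructor
    · rw [← map_mul, hw'i.1, map_one]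
    · intro h
      have h1 : w' ∈ N := (QuotientGroup.eq_one_iff w').mp h
      exact hw'i.2 (eq_one_of_sq hNo h1 hw'i.1)
  -- solvability in the quotient
  have hsY : ∀ X : Subgroup (H ⧸ N), Odd (Nat.card X) → Group.IsSolvable X := by
    intro X hX
    have h1 : Odd (Nat.card ((X.comap (QuotientGroup.mk' N)).map H.subtype)) := by
      rw [Subgroup.card_map_of_injective H.subtype_injective]
      have h2 : Nat.card (X.comap (QuotientGroup.mk' N)) = Nat.card X * Nat.card N := by
        have h5 := Subgroup.card_mul_index (X.comap (QuotientGroup.mk' N))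
        have h6 := Subgroup.card_mul_index X
        rw [Subgroup.index_comap_of_surjective X (QuotientGroup.mk'_surjective N)] at h5
        have h7 : Nat.card H = Nat.card (H ⧸ N) * Nat.card N :=
          Subgroup.card_eq_card_quotient_mul_card_subgroup N
        have h8 : 0 < X.index := Nat.pos_of_ne_zero X.index_ne_zero_of_finite
        apply Nat.eq_of_mul_eq_mul_right h8
        rw [h5, h7, ← h6]; ring
      rw [h2]
      exact hX.mul hNo
    have h2 := hsolv _ h1
    have h3 : Group.IsSolvable (X.comap (QuotientGroup.mk' N)) :=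
      Group.isSolvable_of_isSolvable_injective
        (f := ((X.comap (QuotientGroup.mk' N)).equivMapOfInjective H.subtype
          H.subtype_injective).toMonoidHom)
        (MulEquiv.injective _)
    have h4 : Function.Surjective ((QuotientGroup.mk' N).subgroupComap X) := by
      rintro ⟨x, hx⟩
      obtain ⟨y, rfl⟩ := QuotientGroup.mk'_surjective N x
      exact ⟨⟨y, hx⟩, rfl⟩
    exact Group.isSolvable_of_surjective h4
  obtain ⟨B', hB'⟩ : ∃ B' : Subgroup H, B' = B.subgroupOf H := ⟨_, rfl⟩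
  have hBc : Odd (Nat.card (B'.map (QuotientGroup.mk' N))) := by
    have h1 : Nat.card B' = Nat.card B := by
      rw [hB']
      exact Nat.card_congr (subgroupOfEquivOfLe hBH).toEquiv
    have h2 : Nat.card (B'.map (QuotientGroup.mk' N)) ∣ Nat.card B' :=
      Subgroup.card_dvd_of_surjective ((QuotientGroup.mk' N).subgroupMap B')
        ((QuotientGroup.mk' N).subgroupMap_surjective B')
    rw [h1] at h2
    obtain ⟨m, hm⟩ := h2
    rw [hm] at hB
    exact (Nat.odd_mul.mp hB).1
  have hmain : B'.map (QuotientGroup.mk' N) ≤ centralizer ({QuotientGroup.mk' N w'} : Set _) := by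
    apply of_dihAlt hYs hsY hA' hwY hBc
    intro y hy
    obtain ⟨h, rfl⟩ := QuotientGroup.mk'_surjective N y
    rw [mem_centralizer_iff'] at hy
    have h1 : h * w' * h⁻¹ * w'⁻¹ ∈ N := by
      rw [← QuotientGroup.eq_one_iff]
      change QuotientGroup.mk' N (h * w' * h⁻¹ * w'⁻¹) = 1
      rw [map_mul, map_mul, map_mul, map_inv, map_inv, hy]
      group
    obtain ⟨n, hn, hc⟩ := exists_mul_of_commutator hNo hw'i h1
    obtain ⟨c, hcdef⟩ : ∃ c, c = n⁻¹ * h := ⟨_, rfl⟩
    rw [← hcdef] at hc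
    have h2 : QuotientGroup.mk' N h = QuotientGroup.mk' N c := by
      rw [hcdef, map_mul]
      have h3 : QuotientGroup.mk' N n⁻¹ = 1 := (QuotientGroup.eq_one_iff _).mpr (N.inv_mem hn)
      rw [h3, one_mul]
    have hcG : (c : G) ∈ normalizer (B : Set G) := by
      apply hN
      refine ⟨c.2, mem_centralizer_iff'.mpr ?_⟩
      have := congrArg Subtype.val hc
      rw [Subgroup.coe_mul, Subgroup.coe_mul, hwv] at this
      exact this
    rw [h2]
    apply mem_normalizer_of_conj
    rintro _ ⟨b, hb, rfl⟩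
    refine ⟨c * b * c⁻¹, ?_, by rw [map_mul, map_mul, map_inv]⟩
    rw [SetLike.mem_coe, hB', mem_subgroupOf] at hb ⊢
    exact conj_mem_of_mem_normalizer hcG hb
  have hle : N.map H.subtype ≤ oc H := by
    apply le_oc
    · exact map_subtype_le N
    · intro x hx
      apply mem_normalizer_of_conj
      rintro _ ⟨y, hy, rfl⟩
      exact ⟨⟨x, hx⟩ * y * (⟨x, hx⟩)⁻¹, hNn.conj_mem y hy _, rfl⟩
    · rw [Subgroup.card_map_of_injective H.subtype_injective]
      exact hNo
  refine le_trans ?_ hle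
  rw [commutator_le]
  intro b hb x hx
  have hxH : x ∈ H := (zpowers_le.mpr hwH) hx
  have h1 : (⟨b, hBH hb⟩ : H) * ⟨x, hxH⟩ * (⟨b, hBH hb⟩ : H)⁻¹ * (⟨x, hxH⟩ : H)⁻¹ ∈ N := by
    rw [← QuotientGroup.eq_one_iff]
    change QuotientGroup.mk' N _ = 1
    rw [map_mul, map_mul, map_mul, map_inv, map_inv]
    have h2 : QuotientGroup.mk' N ⟨b, hBH hb⟩ * QuotientGroup.mk' N w' =
        QuotientGroup.mk' N w' * QuotientGroup.mk' N ⟨b, hBH hb⟩ := by
      have h3 := hmain ⟨⟨b, hBH hb⟩, by rw [SetLike.mem_coe, hB', mem_subgroupOf]; exact hb, rfl⟩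
      exact mem_centralizer_iff'.mp h3
    obtain ⟨i, hi⟩ := hx
    have h4 : QuotientGroup.mk' N ⟨x, hxH⟩ = (QuotientGroup.mk' N w') ^ i := by
      rw [← map_zpow]
      congr 1
      apply Subtype.ext
      rw [Subgroup.coe_zpow, hwv]
      exact hi.symm
    rw [h4]
    have h5 : Commute (QuotientGroup.mk' N ⟨b, hBH hb⟩) ((QuotientGroup.mk' N w') ^ i) :=
      Commute.zpow_right h2 i
    rw [h5.eq]; group
  exact ⟨_, h1, rfl⟩

universe u

/-- **(S)** from the structure of the proper subgroups. -/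
theorem sig_of_subAlt {G : Type u} [Group G] [Finite G] (hG : SubDihedral G)
    (hsolv : ∀ X : Subgroup G, Odd (Nat.card X) → Group.IsSolvable X) (hA : SubAlt G) :
    ∀ w, IsInv w → ∀ H : Subgroup G, H ≠ ⊤ → w ∈ H → ∀ B ≤ H, Odd (Nat.card B) →
    w ∈ normalizer (B : Set G) → H ⊓ centralizer ({w} : Set G) ≤ normalizer (B : Set G) →
    ⁅B, zpowers w⁆ ≤ oc H := by
  intro w hw H hH hwH B hBH hB _ hN
  exact sig_of_quotient hG hsolv hw (odd_card_oddCore H) (hA H hH) hwH hBH hB hN

end Cfsg.Agent.Classification.TypeB.Sig
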