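import Cfsg.Agent.Classification.DihStructure
import Cfsg.Agent.LieClassical.SLTwoSylowTwo
import Cfsg.Agent.PLocal.StableOfNotInvolves

/-!
# Groups with dihedral Sylow 2-subgroups have no section `SL(2, p)`, `p` odd
-/

set_option autoImplicit false

namespace Cfsg.Agent.Classification.TypeB.NoSL2

open Subgroup
open Cfsg.Agent.Classification.DihedralCentral
open Cfsg.Agent.PLocal.StableOfNotInvolves (Inv)

theorem image_data {G Y : Type*} [Group G] [Group Y] [Finite G] (hG : SubDihedral G)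
    (K : Subgroup G) (f : K →* Y) (hf : Function.Surjective f) (Q : Subgroup Y)
    (hQ : IsPGroup 2 Q) :
    ∃ R : Subgroup Y, (∀ a ∈ R, ∀ b ∈ R, a * b = b * a) ∧ ∀ x ∈ Q, x ∉ R → x * x = 1 := by
  let K' : Subgroup K := Q.comap f
  obtain ⟨T⟩ : Nonempty (Sylow 2 K') := inferInstance
  let φ : K' →* Q := f.subgroupComap Q
  have hφ : Function.Surjective φ := by
    intro q
    obtain ⟨h, hh⟩ := hf q
    refine ⟨⟨h, ?_⟩, Subtype.ext hh⟩
    change f h ∈ Q
    rw [hh]; exact q.2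
  have hfin : Finite Q := Finite.of_surjective φ hφ
  have hT : ((T : Subgroup K').map φ) = ⊤ := by
    have h2 : IsPGroup 2 (⊤ : Subgroup Q) := hQ.of_equiv Subgroup.topEquiv.symm
    exact ((T.mapSurjective hφ : Sylow 2 Q).3 h2 le_top).symm
  have hp : IsPGroup 2 (((T : Subgroup K').map K'.subtype).map K.subtype) :=
    (T.2.map _).map _
  obtain ⟨R, hR, hRT⟩ := hG _ hp
  refine ⟨(R.comap K.subtype).map f, ?_, ?_⟩
  · rintro _ ⟨a, ha, rfl⟩ _ ⟨b, hb, rfl⟩
    rw [← map_mul, ← map_mul]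
    have : IsCyclic R := hR
    let _ : CommGroup R := IsCyclic.commGroup
    have h1 : (a : G) * b = b * a :=
      congrArg Subtype.val (mul_comm (⟨(a : G), ha⟩ : R) ⟨(b : G), hb⟩)
    have h2 : a * b = b * a := Subtype.ext h1
    rw [h2]
  · intro x hx hxR
    have hx' : (⟨x, hx⟩ : Q) ∈ (T : Subgroup K').map φ := by rw [hT]; trivial
    obtain ⟨a, ha, hax⟩ := hx'
    have hfa : f (a : K) = x := congrArg Subtype.val hax
    have h1 : ((a : K) : G) ∈ ((T : Subgroup K').map K'.subtype).map K.subtype :=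
      mem_map_of_mem _ (mem_map_of_mem _ ha)
    have h2 : ((a : K) : G) ∉ R := fun h => hxR ⟨a, h, hfa⟩
    have h3 := (hRT _ h1 h2).1
    have h4 : (a : K) * a = 1 := Subtype.ext h3
    rw [← hfa, ← map_mul, h4, map_one]

theorem not_inv_sl2 {G : Type*} [Group G] [Finite G] (hG : SubDihedral G) {p : ℕ} [Fact p.Prime]
    (hp : p ≠ 2) : ¬ Inv G (Matrix.SpecialLinearGroup (Fin 2) (ZMod p)) := by
  rintro ⟨K, f, hf⟩
  obtain ⟨i, j, hi, hj, hij, hne⟩ :=
    LieClassical.SLTwoSylowTwo.exists_quaternion_pair p hp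
  have h2 : (2 : ZMod p) ≠ 0 := by
    intro h
    apply hp
    have h3 : ((2 : ℕ) : ZMod p) = 0 := by exact_mod_cast h
    rw [ZMod.natCast_eq_zero_iff] at h3
    exact (Nat.prime_dvd_prime_iff_eq Fact.out Nat.prime_two).1 h3
  have h2g : ∀ k : Matrix.SpecialLinearGroup (Fin 2) (ZMod p), k ^ 4 = 1 →
      IsPGroup 2 (Subgroup.zpowers k) := by
    intro k hk
    have : Nat.card (Subgroup.zpowers k) ∣ 2 ^ 2 := by
      rw [Nat.card_zpowers]
      exact orderOf_dvd_of_pow_eq_one (by simpa using hk)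
    obtain ⟨n, _, hn⟩ := (Nat.dvd_prime_pow Nat.prime_two).1 this
    exact IsPGroup.of_card hn
  have hnorm : Subgroup.zpowers j ≤ Subgroup.normalizer
      (Subgroup.zpowers i : Set (Matrix.SpecialLinearGroup (Fin 2) (ZMod p))) := by
    rw [Subgroup.zpowers_le, Subgroup.mem_normalizer_iff]
    have key : ∀ h, h ∈ Subgroup.zpowers i → j * h * j⁻¹ ∈ Subgroup.zpowers i := by
      rintro _ ⟨n, rfl⟩
      change j * i ^ n * j⁻¹ ∈ _
      rw [← MulAut.conj_apply, map_zpow, MulAut.conj_apply, hij]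
      exact Subgroup.zpow_mem _ (Subgroup.inv_mem _ (Subgroup.mem_zpowers i)) n
    have key4 : ∀ n : ℕ, ∀ h, h ∈ Subgroup.zpowers i →
        j ^ n * h * (j ^ n)⁻¹ ∈ Subgroup.zpowers i := by
      intro n
      induction n with
      | zero => intro h hh; simpa using hh
      | succ n ih =>
        intro h hh
        have := key _ (ih h hh)
        rw [pow_succ']
        simpa [mul_assoc] using this
    intro h
    refine ⟨key h, fun hh => ?_⟩
    have h3 := key4 3 _ hh
    have e : j ^ 3 * (j * h * j⁻¹) * (j ^ 3)⁻¹ = h := by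
      calc j ^ 3 * (j * h * j⁻¹) * (j ^ 3)⁻¹ = j ^ 4 * h * (j ^ 4)⁻¹ := by group
        _ = h := by rw [hj]; simp
    rwa [e] at h3
  have hQ : IsPGroup 2 (Subgroup.zpowers j ⊔ Subgroup.zpowers i :
      Subgroup (Matrix.SpecialLinearGroup (Fin 2) (ZMod p))) :=
    (h2g j hj).to_sup_of_normal_right' (h2g i hi) hnorm
  obtain ⟨R, hR, hQR⟩ := image_data hG K f hf _ hQ
  have hmem : ∀ k ∈ (Subgroup.zpowers j ⊔ Subgroup.zpowers i :
      Subgroup (Matrix.SpecialLinearGroup (Fin 2) (ZMod p))),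
      (∃ l, k * l ≠ l * k) → k ∈ R := by
    rintro k hk ⟨l, hl⟩
    by_contra hkR
    have h3 := hQR k hk hkR
    have h4 : k ≠ 1 := by
      rintro rfl
      apply hl
      rw [one_mul, mul_one]
    have h5 := LieClassical.SLTwoSylowTwo.eq_neg_one_of_sq h2 k h4 (by rw [pow_two, h3])
    apply hl
    rw [h5]
    simp
  apply hne
  exact hR i (hmem i (Subgroup.mem_sup_right (Subgroup.mem_zpowers i)) ⟨j, hne⟩)
    j (hmem j (Subgroup.mem_sup_left (Subgroup.mem_zpowers j)) ⟨i, fun h => hne h.symm⟩)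

theorem not_section_sl2 {G : Type*} [Group G] [Finite G] (hG : SubDihedral G) {p : ℕ}
    [Fact p.Prime] (hp : p ≠ 2) :
    ¬ ∃ (H K : Subgroup G) (hK : (K.subgroupOf H).Normal),
      Nonempty ((H ⧸ K.subgroupOf H) ≃* Matrix.SpecialLinearGroup (Fin 2) (ZMod p)) := by
  rintro ⟨H, K, hK, e⟩
  apply not_inv_sl2 hG hp
  obtain ⟨e⟩ := e
  exact ⟨H, e.toMonoidHom.comp (QuotientGroup.mk' _),
    e.surjective.comp (QuotientGroup.mk'_surjective _)⟩

end Cfsg.Agent.Classification.TypeB.NoSL2
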