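import Cfsg.Agent.Classification.TypeB.Core
import Cfsg.Agent.Classification.TypeB.Fused
import Cfsg.Agent.Classification.TypeB.NoSL2
import Cfsg.Agent.S0118
import Cfsg.Agent.Lib.PGroupCoprimeAction
import Cfsg.Agent.Lib.NormalAbelian

/-!
# Lemma (F): an overgroup of `S O_q(M)` without normal 2-complement
-/

set_option autoImplicit false

namespace Cfsg.Agent.Classification.TypeB.Fusion

open Subgroup Cfsg
open Cfsg.Agent.Classification.TypeB.Basic Cfsg.Agent.Classification.TypeB.LemG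
open Cfsg.Agent.Classification.TypeB.Core
open Cfsg.Agent.Classification.DihedralCentral Cfsg.Agent.Classification.TransferSign
open Cfsg.Agent.OddOrderLocal.PiCoreOf
open Cfsg.Agent.OddOrderLocal
open Cfsg.Agent.OddOrderLocal.FitCores (isPGroup_piCoreOf le_core_of_isPGroup fittingOf_le_iff
  inf_centralizer_fittingOf_le le_centralizer_of_centralizes_fitting)
open Cfsg.Agent.Blocks.SylowIn (exists_sylow_map_eq_iff eq_of_normalizer_inf_le)

universe u

variable {G : Type u} [Group G]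

/-! ### `OddClosed` subgroups -/

/-- elements of odd order lie in `O(X)`. -/
theorem mem_oc [Finite G] {X : Subgroup G} (h : OddClosed X) {x : G} (hx : x ∈ X)
    (ho : Odd (orderOf x)) : x ∈ oc X := by
  obtain ⟨N, hN, hodd, k, hk⟩ := exists_of_oddClosed h
  have h1 : (⟨x, hx⟩ : X) ∈ N := by
    have h1 : orderOf (QuotientGroup.mk' N (⟨x, hx⟩ : X)) ∣ 2 ^ k := by
      rw [← hk]; exact orderOf_dvd_natCard _
    have h2 : orderOf (QuotientGroup.mk' N (⟨x, hx⟩ : X)) ∣ orderOf (⟨x, hx⟩ : X) :=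
      orderOf_map_dvd _ _
    rw [orderOf_mk] at h2
    have h3 : Nat.Coprime (orderOf x) (2 ^ k) :=
      Nat.Coprime.pow_right _ (Nat.coprime_two_right.mpr ho)
    have h4 := Nat.dvd_gcd h2 h1
    rw [h3.gcd_eq_one, Nat.dvd_one, orderOf_eq_one_iff] at h4
    exact (QuotientGroup.eq_one_iff _).mp h4
  have h2 : N.map X.subtype ≤ oc X := by
    refine le_oc (map_subtype_le _) ?_ ?_
    · intro y hy
      apply mem_normalizer_of_conj
      rintro _ ⟨z, hz, rfl⟩
      exact ⟨⟨y, hy⟩ * z * ⟨y, hy⟩⁻¹, hN.conj_mem z hz _, rfl⟩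
    · rw [Nat.card_congr (N.equivMapOfInjective X.subtype X.subtype_injective).symm.toEquiv]
      exact hodd
  exact h2 ⟨⟨x, hx⟩, h1, rfl⟩

theorem le_oc_of_oddClosed [Finite G] {X Y : Subgroup G} (h : OddClosed X) (hYX : Y ≤ X)
    (hY : Odd (Nat.card Y)) : Y ≤ oc X := by
  intro y hy
  apply mem_oc h (hYX hy)
  have h1 : orderOf (⟨y, hy⟩ : Y) ∣ Nat.card Y := orderOf_dvd_natCard _
  rw [← Subgroup.orderOf_coe] at h1
  exact hY.of_dvd_nat h1

/-- `X = O(X) S` -/
theorem exists_mul [Finite G] {X : Subgroup G} (h : OddClosed X) (S : Sylow 2 G)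
    (hS : (S : Subgroup G) ≤ X) {x : G} (hx : x ∈ X) :
    ∃ s ∈ (S : Subgroup G), ∃ k ∈ oc X, x = s * k := by
  haveI : Fact (Nat.Prime 2) := ⟨Nat.prime_two⟩
  have hle : (S : Subgroup G) ⊔ oc X ≤ X := sup_le hS (oc_le X)
  have hdisj : (S : Subgroup G) ⊓ oc X = ⊥ := by
    apply (disjoint_of_coprime_natCard _).eq_bot
    obtain ⟨k, hk⟩ := IsPGroup.iff_card.mp S.2
    rw [hk]
    exact Nat.Coprime.pow_left _ (Nat.coprime_two_left.mpr (odd_oc X))
  obtain ⟨N, hN, hodd, k, hk⟩ := exists_of_oddClosed h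
  have hNle : N.map X.subtype ≤ oc X := by
    rintro _ ⟨z, hz, rfl⟩
    apply mem_oc h z.2
    have h1 : orderOf (⟨z, hz⟩ : N) ∣ Nat.card N := orderOf_dvd_natCard _
    rw [← Subgroup.orderOf_coe] at h1
    change Odd (orderOf (z : G))
    rw [Subgroup.orderOf_coe]
    exact hodd.of_dvd_nat h1
  have hNcard : Nat.card N ≤ Nat.card (oc X) := by
    rw [Nat.card_congr (N.equivMapOfInjective X.subtype X.subtype_injective).toEquiv]
    exact Nat.card_le_card_of_injective _ (inclusion_injective hNle)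
  have hX : Nat.card X ≤ Nat.card (S : Subgroup G) * Nat.card (oc X) := by
    rw [← N.card_mul_index, hk, mul_comm]
    refine Nat.mul_le_mul ?_ hNcard
    have h2 : 2 ^ k ∣ Nat.card G := by
      rw [← hk]
      exact (Subgroup.index_dvd_card N).trans (Subgroup.card_subgroup_dvd_card _)
    rw [S.card_eq_multiplicity]
    exact Nat.pow_le_pow_right (by norm_num)
      ((Nat.prime_two.pow_dvd_iff_le_factorization Nat.card_pos.ne').1 h2)
  -- the map `S × O(X) → X`
  have hinj : Function.Injective (fun p : (↥(S : Subgroup G)) × (↥(oc X)) =>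
      (⟨(p.1 : G) * p.2, X.mul_mem (hS p.1.2) (oc_le X p.2.2)⟩ : X)) := by
    rintro ⟨s, a⟩ ⟨s', a'⟩ hp
    have h1 : (s : G) * a = s' * a' := congrArg Subtype.val hp
    have h2 : (s' : G)⁻¹ * s = a' * (a : G)⁻¹ := by
      rw [inv_mul_eq_iff_eq_mul, ← mul_assoc, ← h1, mul_inv_cancel_right]
    have h3 : (s' : G)⁻¹ * s ∈ (S : Subgroup G) ⊓ oc X :=
      mem_inf.mpr ⟨mul_mem (inv_mem s'.2) s.2, h2 ▸ mul_mem a'.2 (inv_mem a.2)⟩
    rw [hdisj, mem_bot] at h3
    have h4 : (s : G) = s' := (inv_mul_eq_one.mp h3).symm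
    rw [h4] at h1
    exact Prod.ext (Subtype.ext h4) (Subtype.ext (mul_left_cancel h1))
  have hbij := (Nat.bijective_iff_injective_and_card _).mpr ⟨hinj, le_antisymm
    (Nat.card_le_card_of_injective _ hinj) (by rw [Nat.card_prod]; exact hX)⟩
  obtain ⟨⟨s, a⟩, hsa⟩ := hbij.2 ⟨x, hx⟩
  exact ⟨s, s.2, a, a.2, (congrArg Subtype.val hsa).symm⟩

/-- `t` is central modulo `O(X)`. -/
theorem mul_conj_mem_oc [Finite G] {X : Subgroup G} (h : OddClosed X) (S : Sylow 2 G)
    (hS : (S : Subgroup G) ≤ X) {t : G} (htS : t ∈ (S : Subgroup G)) (ht : IsInv t)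
    (htc : ∀ s ∈ (S : Subgroup G), s * t = t * s) {x : G} (hx : x ∈ X) :
    t * (x * t * x⁻¹) ∈ oc X := by
  obtain ⟨s, hs, k, hk, rfl⟩ := exists_mul h S hS hx
  have hn : ∀ y ∈ X, y ∈ normalizer (oc X : Set G) := fun y hy => le_normalizer_oc X hy
  -- `t s k t k⁻¹ s⁻¹ = s (t k t) k⁻¹ s⁻¹`
  have h1 : t * (s * k * t * (s * k)⁻¹) = s * ((t * k * t⁻¹) * k⁻¹) * s⁻¹ := by
    have h2 : t * (s * k * t * (s * k)⁻¹) = (t * s) * k * t * k⁻¹ * s⁻¹ := by group
    rw [h2, ← htc s hs, ht.inv_eq]; group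
  rw [h1]
  refine conj_mem_of_mem_normalizer (hn s (hS hs)) ?_
  exact mul_mem (conj_mem_of_mem_normalizer (hn t (hS htS)) hk) (inv_mem hk)

/-- if `s` inverts no nontrivial element of `K` then `s` centralises `K`. -/
theorem le_centralizer_of_no_inverted' {K : Subgroup G} {s : G} (hs : IsInv s)
    (hn : s ∈ normalizer (K : Set G)) (h : ∀ w ∈ K, s * w * s⁻¹ = w⁻¹ → w = 1) :
    K ≤ centralizer ({s} : Set G) := by
  intro x hx
  have h1 : x⁻¹ * (s * x * s⁻¹) = 1 := by
    apply h _ (K.mul_mem (K.inv_mem hx) (conj_mem_of_mem_normalizer hn hx))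
    have h2 : s * (x⁻¹ * (s * x * s⁻¹)) * s⁻¹ = (s * x⁻¹ * s⁻¹) * (s * s * x * (s * s)⁻¹) := by
      group
    rw [h2, hs.1]; group
  rw [inv_mul_eq_one, eq_mul_inv_iff_mul_eq] at h1
  exact mem_centralizer_iff'.mpr h1

/-! ### Lemma (F) -/

/-- `T` is (the image of) a Sylow `q`-subgroup of `K`. -/
def IsSyl (q : ℕ) (K T : Subgroup G) : Prop := ∃ P : Sylow q K, (P : Subgroup K).map K.subtype = T

theorem isSyl_iff {q : ℕ} {K T : Subgroup G} : IsSyl q K T ↔
    (T ≤ K ∧ IsPGroup q T ∧ ∀ Q : Subgroup G, Q ≤ K → IsPGroup q Q → T ≤ Q → Q = T) :=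
  exists_sylow_map_eq_iff

variable [Finite G]

/-- **Lemma (F).** -/
theorem le_centralizer_of_oddClosed (hG : SubDihedral G) {q : ℕ} (hq : q.Prime) (hq2 : q ≠ 2)
    (S : Sylow 2 G) {t u : G} (htS : t ∈ (S : Subgroup G)) (huS : u ∈ (S : Subgroup G))
    (ht : IsInv t) (hu : IsInv u) (hne : t ≠ u) (htc : ∀ s ∈ (S : Subgroup G), s * t = t * s)
    (hone : ∀ x y : G, IsInv x → IsInv y → ∃ g : G, g * x * g⁻¹ = y) {M : Subgroup G}
    (hCM : centralizer ({t} : Set G) ≤ M) (hM : OddClosed M) {T : Subgroup G}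
    (hT : IsSyl q (oc M) T) {T' : Subgroup G} (hTT' : T ≤ T') (hT' : IsPGroup q T')
    (hST' : (S : Subgroup G) ≤ normalizer (T' : Set G))
    (hmax : ∀ X : Subgroup G, IsPGroup q X → (S : Subgroup G) ≤ normalizer (X : Set G) →
      T' ≤ X → X = T')
    (hL : OddClosed (normalizer (centerThompsonOf q T' : Set G))) :
    T' ≤ centralizer ({t} : Set G) := by
  haveI := Fact.mk hq
  haveI : Fact (Nat.Prime 2) := ⟨Nat.prime_two⟩
  set L : Subgroup G := normalizer (centerThompsonOf q T' : Set G) with hLdef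
  have hNT' : normalizer (T' : Set G) ≤ L := PLocal.ZJElem.normalizer_le_normalizer_centerThompsonOf q T'
  have hT'L : T' ≤ L := le_normalizer.trans hNT'
  have hSL : (S : Subgroup G) ≤ L := hST'.trans hNT'
  have hT'o : Odd (Nat.card T') := odd_of_isPGroup hq hq2 hT'
  have hT'oc : T' ≤ oc L := le_oc_of_oddClosed hL hT'L hT'o
  have htM : t ∈ M := hCM (mem_centralizer_iff'.mpr rfl)
  -- `T'` is a Sylow `q`-subgroup of `O(L)`
  have hsylL : IsSyl q (oc L) T' := by
    obtain ⟨X, hX, hSX, hT'X⟩ := Lib.PGroupCoprimeAction.exists_invariant_sylow_ge (p := 2) (q := q)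
      (A := (S : Subgroup G)) (H := oc L) (R := T') S.2 (not_two_dvd (odd_oc L))
      (fun b hb u hu => conj_mem_of_mem_normalizer (le_normalizer_oc L (hSL hb)) hu) hT'oc hT'
      (fun b hb u hu => conj_mem_of_mem_normalizer (hST' hb) hu)
    have h1 := (isSyl_iff.mp hX)
    have h2 := hmax X h1.2.1 (fun b hb => mem_normalizer_of_conj (hSX b hb)) hT'X
    rw [← h2]
    exact hX
  -- `T'` is a Sylow `q`-subgroup of `G`
  obtain ⟨P, hP⟩ : ∃ P : Sylow q G, (P : Subgroup G) = T' := by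
    refine ⟨⟨T', hT', fun {Q} hQ hle => ?_⟩, rfl⟩
    refine eq_of_normalizer_inf_le hQ hle ?_
    have h1 : normalizer (T' : Set G) ⊓ Q ≤ L := inf_le_left.trans hNT'
    have h2 : IsPGroup q ↥(normalizer (T' : Set G) ⊓ Q) := hQ.to_le inf_le_right
    exact ((isSyl_iff.mp hsylL).2.2 _
      (le_oc_of_oddClosed hL h1 (odd_of_isPGroup hq hq2 h2)) h2
      (le_inf le_normalizer hle)).le
  have hcomm_u : t * u = u * t := (htc u huS).symm
  have hn : ∀ s ∈ (S : Subgroup G), s ∈ normalizer (T' : Set G) := fun s hs => hST' hs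
  -- the key step
  have key : ∀ w : G, w ∈ (S : Subgroup G) → IsInv w →
      T' ⊓ centralizer ({w} : Set G) ≤ centralizer ({t} : Set G) := by
    intro w hwS hw
    have htw : t * w = w * t := (htc w hwS).symm
    refine Cfsg.Agent.Classification.TypeB.Fusion.le_centralizer_of_no_inverted' ht ?_ ?_
    · apply mem_normalizer_of_conj
      rintro y ⟨hy1, hy2⟩
      refine mem_inf.mpr ⟨conj_mem_of_mem_normalizer (hn t htS) hy1, ?_⟩
      have h3 : t ∈ centralizer ({w} : Set G) := mem_centralizer_iff'.mpr htw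
      exact mul_mem (mul_mem h3 hy2) (inv_mem h3)
    · rintro x ⟨hxT, hxw⟩ hinv
      have hxw' : x * w = w * x := mem_centralizer_iff'.mp hxw
      obtain ⟨g, hg⟩ := hone t w ht hw
      -- `y = g⁻¹ x g ∈ C(t)`
      set y : G := g⁻¹ * x * g with hy
      have hyt : y * t = t * y := by
        have h1 : y * t = g⁻¹ * (x * (g * t * g⁻¹)) * g := by rw [hy]; group
        have h2 : t * y = g⁻¹ * ((g * t * g⁻¹) * x) * g := by rw [hy]; group
        rw [h1, h2, hg, hxw']
      have hyq : IsPGroup q (zpowers y) := by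
        have h1 : zpowers y = (zpowers x).map (MulAut.conj g⁻¹).toMonoidHom := by
          rw [MonoidHom.map_zpowers]
          congr 1
          change y = g⁻¹ * x * g⁻¹⁻¹
          rw [inv_inv]
        rw [h1]
        exact (hT'.to_le (zpowers_le.mpr hxT)).map _
      have hyM : zpowers y ≤ M := by
        rw [zpowers_le]
        exact hCM (mem_centralizer_iff'.mpr hyt)
      have hyR : zpowers y ≤ oc M := le_oc_of_oddClosed hM hyM (odd_of_isPGroup hq hq2 hyq)
      have htR : ∀ b ∈ zpowers t, ∀ v ∈ oc M, b * v * b⁻¹ ∈ oc M := by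
        intro b hb v hv
        exact conj_mem_of_mem_normalizer (le_normalizer_oc M ((zpowers_le.mpr htM) hb)) hv
      obtain ⟨T₁, hT₁, htT₁, hyT₁⟩ := Lib.PGroupCoprimeAction.exists_invariant_sylow_ge (p := 2)
        (q := q) (A := zpowers t) (H := oc M) (R := zpowers y) ht.isPGroup
        (not_two_dvd (odd_oc M)) htR hyR hyq (by
          intro b hb v hv
          obtain ⟨n, rfl⟩ := hb
          obtain ⟨m, rfl⟩ := hv
          have h1 : Commute y t := hyt
          have h2 : (fun x1 : ℤ => t ^ x1) n * (fun x1 : ℤ => y ^ x1) m *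
              ((fun x1 : ℤ => t ^ x1) n)⁻¹ = y ^ m := by
            change t ^ n * y ^ m * (t ^ n)⁻¹ = y ^ m
            rw [((h1.zpow_zpow m n)).symm.eq, mul_inv_cancel_right]
          rw [h2]
          exact ⟨m, rfl⟩)
      have htT : ∀ b ∈ zpowers t, ∀ v ∈ T, b * v * b⁻¹ ∈ T := by
        -- `T = T' ∩ O(M)`
        have h1 : T' ⊓ oc M = T := (isSyl_iff.mp hT).2.2 _ inf_le_right (hT'.to_le inf_le_left)
          (le_inf hTT' (isSyl_iff.mp hT).1)
        intro b hb v hv
        rw [← h1] at hv ⊢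
        refine mem_inf.mpr ⟨conj_mem_of_mem_normalizer ?_ hv.1, htR b hb v hv.2⟩
        exact (zpowers_le.mpr (hn t htS)) hb
      obtain ⟨c, hc, hcT⟩ := Lib.PGroupCoprimeAction.exists_centralizer_conj (p := 2) (q := q)
        (A := zpowers t) (H := oc M) ht.isPGroup (not_two_dvd (odd_oc M)) htR hT₁ hT htT₁ htT
      obtain ⟨hcR, hct⟩ := mem_inf.mp hc
      rw [centralizer_zpowers] at hct
      have hct' : c * t = t * c := mem_centralizer_iff'.mp hct
      have hcy : c * y * c⁻¹ ∈ T' := by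
        apply hTT'
        rw [← hcT]
        exact ⟨y, hyT₁ (mem_zpowers y), rfl⟩
      -- fusion
      have hPm : ∀ a : G, a ∈ T' → a ∈ (P : Set G) := fun a ha => by
        have h1 : a ∈ (P : Subgroup G) := by rw [hP]; exact ha
        exact h1
      obtain ⟨n, hnL, hnx⟩ := Cfsg.Agent.S0118.result hq2 (NoSL2.not_section_sl2 hG hq2) P {x}
        (by rintro _ rfl; exact hPm _ hxT) (g * c⁻¹) (by
          rintro _ ⟨a, ha, rfl⟩
          rw [Set.mem_singleton_iff] at ha
          have h1 : (g * c⁻¹)⁻¹ * a * (g * c⁻¹) = c * y * c⁻¹ := by rw [hy, ha]; group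
          apply hPm
          change (g * c⁻¹)⁻¹ * a * (g * c⁻¹) ∈ T'
          rw [h1]
          exact hcy)
      rw [hP] at hnL
      have hnx' : n⁻¹ * x * n = (g * c⁻¹)⁻¹ * x * (g * c⁻¹) := hnx x rfl
      -- `e = n c g⁻¹` centralises `x`
      set e : G := n * c * g⁻¹ with he
      have hex : e * x = x * e := by
        have h1 : e * x * e⁻¹ = n * ((g * c⁻¹)⁻¹ * x * (g * c⁻¹)) * n⁻¹ := by rw [he]; group
        rw [← hnx'] at h1
        have h2 : n * (n⁻¹ * x * n) * n⁻¹ = x := by group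
        rw [h2] at h1
        exact mul_inv_eq_iff_eq_mul.mp h1
      have hew : e * w * e⁻¹ = n * t * n⁻¹ := by
        have h1 : e * w * e⁻¹ = n * (c * (g⁻¹ * w * g) * c⁻¹) * n⁻¹ := by rw [he]; group
        have h2 : g⁻¹ * w * g = t := by rw [← hg]; group
        rw [h1, h2, hct', mul_inv_cancel_right]
      set t' : G := n * t * n⁻¹ with ht'
      have ht'x : t' * x = x * t' := by
        rw [← hew]
        have h1 : Commute e x := hex
        have h2 : Commute w x := hxw'.symm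
        exact ((h1.mul_left h2).mul_left h1.inv_left).eq
      have hd : t * t' ∈ oc L := mul_conj_mem_oc hL S hSL htS ht htc hnL
      -- `d = t t'` inverts `x` and has odd order
      set d : G := t * t' with hdd
      have hdx : d * x * d⁻¹ = x⁻¹ := by
        have h1 : d * x * d⁻¹ = t * (t' * x * t'⁻¹) * t⁻¹ := by rw [hdd]; group
        rw [h1, ht'x, mul_inv_cancel_right, hinv]
      have hdo : Odd (orderOf d) := by
        have h1 : orderOf (⟨d, hd⟩ : oc L) ∣ Nat.card (oc L) := orderOf_dvd_natCard _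
        rw [← Subgroup.orderOf_coe] at h1
        exact (odd_oc L).of_dvd_nat h1
      have hd2 : Commute (d * d) x := by
        have h1 : d * d * x * (d * d)⁻¹ = x := by
          have h2 : d * d * x * (d * d)⁻¹ = d * (d * x * d⁻¹) * d⁻¹ := by group
          have h3 : d * x⁻¹ * d⁻¹ = (d * x * d⁻¹)⁻¹ := by group
          rw [h2, hdx, h3, hdx, inv_inv]
        exact mul_inv_eq_iff_eq_mul.mp h1
      have hdc : Commute d x := by
        obtain ⟨m, hm⟩ := hdo
        have h1 : d = (d * d) ^ (m + 1) := by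
          rw [← pow_two, ← pow_mul, show 2 * (m + 1) = orderOf d + 1 by omega, pow_succ,
            pow_orderOf_eq_one, one_mul]
        have h2 := hd2.pow_left (m + 1)
        rw [← h1] at h2
        exact h2
      have hxx : x = x⁻¹ := by
        rw [← hdx, hdc.eq, mul_inv_cancel_right]
      apply eq_one_of_sq hT'o hxT
      nth_rewrite 2 [hxx]
      exact mul_inv_cancel x
  exact le_of_four hT'o ht hu hcomm_u (hn t htS) (hn u huS) inf_le_right (key u huS hu)
    (key (t * u) (mul_mem htS huS) (ht.mul hu hcomm_u hne))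

end Cfsg.Agent.Classification.TypeB.Fusion
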