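import Cfsg.Agent.Lib.AutSL2Out
import Cfsg.Agent.Classification.TypeB.SigMat

/-!
# Automorphisms of `SL(2, F)`, `F` finite of odd order: involutory automorphisms

`isSquare_of_conj` (Hilbert 90), `eq_of_lift` (an automorphism trivial modulo the centre is trivial),
`field_eq_one` (`conjGL k * fieldAut τ = 1` implies `τ = 1`, `k` scalar), `exists_pair`.
-/

set_option autoImplicit false

namespace Cfsg.Agent.Classification.TypeB.SigAut

open Matrix Cfsg.Agent.Lib.SL2Mat Cfsg.Agent.Lib.AutSL2 Cfsg.Agent.Lib.AutSL2Out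

variable {F : Type*} [Field F]

local notation "SL2" => Matrix.SpecialLinearGroup (Fin 2) F

/-- `conjGL k * fieldAut τ = 1` implies `τ = 1` and `k` scalar. -/
theorem field_eq_one {k : GL (Fin 2) F} {τ : F ≃+* F}
    (h : ∀ x : SL2, conjGL k (fieldAut τ x) = x) :
    τ = 1 ∧ ∃ c : F, k.1 = c • (1 : Matrix (Fin 2) (Fin 2) F) := by
  have hτ : τ = 1 := by
    ext a
    have h1 := h (mk a (-1) 1 0 (by ring))
    have h2 : ((conjGL k (fieldAut τ (mk a (-1) 1 0 (by ring)))).1).trace =
        (mk a (-1) 1 0 (by ring) : SL2).1.trace := by rw [h1]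
    rw [conjGL_val, Matrix.trace_mul_comm, ← Matrix.mul_assoc, inv_val_mul_val, Matrix.one_mul,
      Matrix.trace_fin_two, Matrix.trace_fin_two] at h2
    change ent (fieldAut τ (mk a (-1) 1 0 (by ring))) 0 0 +
      ent (fieldAut τ (mk a (-1) 1 0 (by ring))) 1 1 =
      ent (mk a (-1) 1 0 (by ring) : SL2) 0 0 + ent (mk a (-1) 1 0 (by ring) : SL2) 1 1 at h2
    rw [fieldAut_ent, fieldAut_ent, mk_00, mk_11, map_zero, add_zero, add_zero] at h2
    exact h2
  refine ⟨hτ, k.1 0 0, ?_⟩
  have hcomm : ∀ x : SL2, k.1 * x.1 = x.1 * k.1 := by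
    intro x
    have h1 := h x
    rw [hτ, map_one] at h1
    have h2 : (conjGL k x).1 = x.1 := by
      rw [show (1 : MulAut SL2) x = x from rfl] at h1
      rw [h1]
    rw [conjGL_val] at h2
    calc k.1 * x.1 = (k.1 * x.1 * k⁻¹.1) * k.1 := by
          rw [Matrix.mul_assoc _ k⁻¹.1, inv_val_mul_val, Matrix.mul_one]
      _ = x.1 * k.1 := by rw [h2]
  have hup := hcomm (up 1)
  have hlo := hcomm (lo 1)
  have u1 : (up (1 : F)).1 = !![1, 1; 0, 1] := rfl
  have l1 : (lo (1 : F)).1 = !![1, 0; 1, 1] := rfl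
  rw [u1] at hup
  rw [l1] at hlo
  rw [Matrix.eta_fin_two k.1, Matrix.mul_fin_two, Matrix.mul_fin_two] at hup hlo
  have a00 := congrFun (congrFun hup 0) 0
  have a01 := congrFun (congrFun hup 0) 1
  have b00 := congrFun (congrFun hlo 0) 0
  simp only [of_apply, cons_val', cons_val_zero, cons_val_one, cons_val_fin_one] at a00 a01 b00
  have e10 : k.1 1 0 = 0 := by linear_combination -a00
  have e01 : k.1 0 1 = 0 := by linear_combination b00
  have e11 : k.1 1 1 = k.1 0 0 := by linear_combination -a01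
  rw [Matrix.eta_fin_two k.1, e10, e01, e11]
  ext i j
  fin_cases i <;> fin_cases j <;> simp

theorem sq_center {z : SL2} (hz : z ∈ Subgroup.center SL2) : z * z = 1 := by
  rw [Matrix.SpecialLinearGroup.mem_center_iff] at hz
  obtain ⟨r, hr, hz⟩ := hz
  rw [Fintype.card_fin] at hr
  apply Subtype.ext
  change z.1 * z.1 = 1
  rw [← hz, ← map_mul, ← sq, hr, map_one]

/-- two elements of the same odd order modulo the centre. -/
theorem eq_of_odd {x y : SL2} (hz : y * x⁻¹ ∈ Subgroup.center SL2) {m : ℕ} (hm : Odd m)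
    (hx : x ^ m = 1) (hy : y ^ m = 1) : y = x := by
  obtain ⟨z, hzz⟩ : ∃ z, z = y * x⁻¹ := ⟨_, rfl⟩
  rw [← hzz] at hz
  have hyz : y = z * x := by rw [hzz]; group
  have hcm : Commute z x := ((Subgroup.mem_center_iff.mp hz) x).symm
  have h1 : z ^ m = 1 := by
    rw [hyz, hcm.mul_pow, hx, mul_one] at hy
    exact hy
  have h2 := sq_center hz
  obtain ⟨k, hk⟩ := hm
  rw [hk, pow_succ, pow_mul, sq, h2, one_pow, one_mul] at h1
  rw [hyz, h1, one_mul]

/-- elements of odd order commuting modulo the centre commute. -/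
theorem comm_of_odd {x y : SL2} (hz : (x * y * x⁻¹) * y⁻¹ ∈ Subgroup.center SL2) {m : ℕ}
    (hm : Odd m) (hy : y ^ m = 1) : x * y = y * x := by
  have h1 : (x * y * x⁻¹) ^ m = 1 := by
    rw [conj_pow, hy, mul_one, mul_inv_cancel]
  have h2 := eq_of_odd hz hm hy h1
  calc x * y = (x * y * x⁻¹) * x := by group
    _ = y * x := by rw [h2]

/-- an automorphism of `SL(2,F)` which is trivial modulo the centre is trivial. -/
theorem eq_of_lift [Finite F] (h2 : (2 : F) ≠ 0) {Z : Type*} [Group Z] (π : SL2 →* Z)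
    (hk : π.ker ≤ Subgroup.center SL2) (θ : MulAut SL2) (h : ∀ x, π (θ x) = π x) (x : SL2) :
    θ x = x := by
  obtain ⟨p, hpc⟩ := CharP.exists F
  have : CharP F p := hpc
  have hp : Fact p.Prime := ⟨CharP.char_is_prime F p⟩
  have hodd : Odd p := by
    rcases hp.1.eq_two_or_odd' with h | h
    · exfalso
      apply h2
      have := CharP.cast_eq_zero F p
      rw [h] at this
      exact_mod_cast this
    · exact h
  have key : ∀ y : SL2, y ^ p = 1 → θ y = y := by
    intro y hy
    apply eq_of_odd (m := p) _ hodd hy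
    · rw [← map_pow, hy, map_one]
    · apply hk
      rw [MonoidHom.mem_ker, map_mul, map_inv, h, mul_inv_cancel]
  have hfg : θ.toMonoidHom = MonoidHom.id SL2 := by
    apply hom_ext
    · intro b
      apply key
      rw [up_pow, CharP.cast_eq_zero, zero_mul, up_zero]
    · intro b
      apply key
      have hlo : ∀ n : ℕ, (lo b) ^ n = lo (n * b) := by
        intro n
        induction n with
        | zero => rw [pow_zero, Nat.cast_zero, zero_mul, lo_zero]
        | succ n ih => rw [pow_succ, ih, lo_mul, Nat.cast_succ, add_mul, one_mul]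
      rw [hlo, CharP.cast_eq_zero, zero_mul, lo_zero]
  exact DFunLike.congr_fun hfg x

/-- Hilbert 90 and squares. -/
theorem isSquare_of_conj [Finite F] (h2 : (2 : F) ≠ 0) {σ : F ≃+* F}
    (hσ2 : ∀ x, σ (σ x) = x) (hσ : σ ≠ 1) {d l : F} (hd : d ≠ 0) (h : d * σ d = l ^ 2)
    (hl : σ l = l) : IsSquare d := by
  have := Fintype.ofFinite F
  have hchar : ringChar F ≠ 2 := by
    intro hc
    apply h2
    have := CharP.cast_eq_zero F (ringChar F)
    rw [hc] at this
    exact_mod_cast this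
  have hσd : σ d ≠ 0 := by rwa [ne_eq, map_eq_zero]
  have hl0 : l ≠ 0 := by
    rintro rfl
    rw [zero_pow two_ne_zero] at h
    exact (mul_ne_zero hd hσd) h
  -- `δ` with `σ δ = -δ`
  obtain ⟨δ, hδ0, hδ⟩ : ∃ δ : F, δ ≠ 0 ∧ σ δ = -δ := by
    obtain ⟨x, hx⟩ : ∃ x, σ x ≠ x := by
      by_contra hcon
      push Not at hcon
      apply hσ
      ext x
      exact hcon x
    refine ⟨x - σ x, sub_ne_zero.mpr (Ne.symm hx), ?_⟩
    rw [map_sub, hσ2]; ring
  -- `μ = ν / σ ν`
  obtain ⟨ν, hν0, hν⟩ : ∃ ν : F, ν ≠ 0 ∧ d * σ ν = l * ν := by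
    by_cases h1 : l + d = 0
    · refine ⟨δ, hδ0, ?_⟩
      rw [hδ]
      linear_combination -δ * h1
    · refine ⟨l + d, h1, ?_⟩
      rw [map_add, hl]
      linear_combination h
  have hσν : σ ν ≠ 0 := by rwa [ne_eq, map_eq_zero]
  -- fixed elements are squares
  have hfix : IsSquare l := by
    let ψ : Fˣ →* Fˣ :=
      { toFun := fun x => x / Units.map (σ : F →* F) x
        map_one' := by simp
        map_mul' := fun x y => by rw [map_mul, mul_div_mul_comm] }
    have hψ : ∀ x : Fˣ, ψ x = x / Units.map (σ : F →* F) x := fun _ => rfl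
    have hneg : (-1 : Fˣ) ∈ ψ.range := by
      refine ⟨Units.mk0 δ hδ0, ?_⟩
      rw [hψ, div_eq_iff_eq_mul]
      apply Units.ext
      rw [Units.val_mul, Units.val_neg, Units.val_one, Units.coe_map]
      change δ = -1 * σ δ
      rw [hδ]; ring
    have hdvd : 2 ∣ Nat.card ψ.range := by
      have h3 : orderOf (-1 : Fˣ) = 2 := by
        apply orderOf_eq_prime
        · rw [neg_sq, one_pow]
        · intro h4
          apply h2
          have h5 := congrArg (Units.val : Fˣ → F) h4
          rw [Units.val_neg, Units.val_one] at h5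
          linear_combination -h5
      rw [← h3]
      exact Subgroup.orderOf_dvd_natCard _ hneg
    have hcard : Nat.card ψ.range * Nat.card ψ.ker = Nat.card Fˣ := by
      have h3 := Subgroup.card_eq_card_quotient_mul_card_subgroup ψ.ker
      rw [h3, Nat.card_congr (QuotientGroup.quotientKerEquivRange ψ).toEquiv]
    obtain ⟨k, hk⟩ := hdvd
    have hFc : Nat.card Fˣ = Fintype.card F - 1 := by
      rw [Nat.card_units, Nat.card_eq_fintype_card]
    have hpos : 0 < Fintype.card F := Fintype.card_pos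
    have hdiv : Fintype.card F / 2 = k * Nat.card ψ.ker := by
      have hq : Fintype.card F = 2 * (k * Nat.card ψ.ker) + 1 := by
        have e1 : 2 * (k * Nat.card ψ.ker) = Fintype.card F - 1 := by
          rw [← hFc, ← hcard, hk]; ring
        omega
      omega
    rw [FiniteField.isSquare_iff hchar hl0, hdiv, mul_comm, pow_mul]
    have hmem : (Units.mk0 l hl0) ∈ ψ.ker := by
      rw [MonoidHom.mem_ker, hψ, div_eq_one]
      apply Units.ext
      rw [Units.coe_map]
      exact hl.symm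
    have h4 : (⟨Units.mk0 l hl0, hmem⟩ : ψ.ker) ^ Nat.card ψ.ker = 1 := pow_card_eq_one'
    have h5 := congrArg (fun x : ψ.ker => ((x : Fˣ) : F)) h4
    simp only [SubmonoidClass.coe_pow, Units.val_pow_eq_pow_val, Units.val_mk0,
      OneMemClass.coe_one, Units.val_one] at h5
    rw [h5, one_pow]
  obtain ⟨a, ha⟩ := hfix
  obtain ⟨b, hb⟩ := isSquare_mul_map σ ν
  refine ⟨a * b / σ ν, ?_⟩
  field_simp
  have e1 : d * σ ν * σ ν = (a * a) * (b * b) := by
    rw [← ha, ← hb]
    linear_combination (σ ν) * hν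
  linear_combination e1

/-- a quaternion pair over the prime field. -/
theorem exists_pair [Finite F] (h2 : (2 : F) ≠ 0) :
    ∃ i j : SL2, (∀ σ : F ≃+* F, fieldAut σ i = i) ∧ (∀ σ : F ≃+* F, fieldAut σ j = j) ∧
      i.1 * i.1 = -1 ∧ j.1 * j.1 = -1 ∧ i.1 * j.1 = -(j.1 * i.1) := by
  obtain ⟨p, hpc⟩ := CharP.exists F
  have : CharP F p := hpc
  have hp : Fact p.Prime := ⟨CharP.char_is_prime F p⟩
  let _ : Algebra (ZMod p) F := ZMod.algebra F p
  obtain ⟨a, b, hab⟩ := ZMod.sq_add_sq p (-1)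
  have hfix : ∀ (ρ : F ≃+* F) (r : ZMod p),
      ρ (algebraMap (ZMod p) F r) = algebraMap (ZMod p) F r := by
    intro ρ r
    obtain ⟨n, rfl⟩ := ZMod.natCast_zmod_surjective r
    rw [map_natCast, map_natCast]
  have hab' : (algebraMap (ZMod p) F a) ^ 2 + (algebraMap (ZMod p) F b) ^ 2 = -1 := by
    rw [← map_pow, ← map_pow, ← map_add, hab, map_neg, map_one]
  obtain ⟨A, hA⟩ : ∃ A, A = algebraMap (ZMod p) F a := ⟨_, rfl⟩
  obtain ⟨B, hB⟩ : ∃ B, B = algebraMap (ZMod p) F b := ⟨_, rfl⟩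
  have hfA : ∀ ρ : F ≃+* F, ρ A = A := fun ρ => by rw [hA]; exact hfix ρ a
  have hfB : ∀ ρ : F ≃+* F, ρ B = B := fun ρ => by rw [hB]; exact hfix ρ b
  rw [← hA, ← hB] at hab'
  have hdet : A * (-A) - B * B = 1 := by linear_combination -hab'
  refine ⟨mk 0 1 (-1) 0 (by ring), mk A B B (-A) hdet, ?_, ?_, ?_, ?_, ?_⟩
  · intro σ
    refine ext_ent ?_ ?_ ?_ ?_ <;> simp
  · intro σ
    refine ext_ent ?_ ?_ ?_ ?_ <;> simp [hfA, hfB]
  · change (!![0, 1; -1, 0] : Matrix (Fin 2) (Fin 2) F) * !![0, 1; -1, 0] = -1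
    rw [Matrix.mul_fin_two]
    ext i j
    fin_cases i <;> fin_cases j <;> simp
  · change (!![A, B; B, -A] : Matrix (Fin 2) (Fin 2) F) * !![A, B; B, -A] = -1
    rw [Matrix.mul_fin_two]
    ext i j
    fin_cases i <;> fin_cases j <;> simp
    · linear_combination hab'
    · ring
    · ring
    · linear_combination hab'
  · change (!![0, 1; -1, 0] : Matrix (Fin 2) (Fin 2) F) * !![A, B; B, -A] =
      -(!![A, B; B, -A] * !![0, 1; -1, 0])
    rw [Matrix.mul_fin_two, Matrix.mul_fin_two]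
    ext i j
    fin_cases i <;> fin_cases j <;> simp

end Cfsg.Agent.Classification.TypeB.SigAut
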