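import Cfsg.Agent.Classification.TypeB.Basic

/-!
# Invariant `q`-subgroups of groups of odd order

`commutator_le_core`: if the involution `t` acts on the solvable group `O` of odd order and `P ≤ O` is a
`q`-subgroup normalised by `t` and by `C_O(t)`, then `[P, t] ≤ O_q(O)`.
-/

set_option autoImplicit false

namespace Cfsg.Agent.Classification.TypeB.LemG

open Subgroup Cfsg
open Cfsg.Agent.Classification.TypeB.Basic
open Cfsg.Agent.OddOrderLocal.PiCoreOf Cfsg.Agent.OddOrderLocal.FitCores
open Cfsg.Agent.OddOrderLocal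

theorem disjoint_of_isPGroup {G : Type*} [Group G] [Finite G] {q r : ℕ} (hq : q.Prime)
    (hr : r.Prime) (hqr : q ≠ r) {P Y : Subgroup G} (hP : IsPGroup q P) (hY : IsPGroup r Y) :
    P ⊓ Y = ⊥ := by
  haveI := Fact.mk hq
  haveI := Fact.mk hr
  apply (disjoint_of_coprime_natCard _).eq_bot
  obtain ⟨n, hn⟩ := IsPGroup.iff_card.mp hP
  obtain ⟨m, hm⟩ := IsPGroup.iff_card.mp hY
  rw [hn, hm]
  exact Nat.Coprime.pow _ _ ((Nat.coprime_primes hq hr).mpr hqr)

theorem coprime_of_isPGroup {G : Type*} [Group G] [Finite G] {q r : ℕ} (hq : q.Prime)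
    (hr : r.Prime) (hqr : q ≠ r) {P Y : Subgroup G} (hP : IsPGroup q P) (hY : IsPGroup r Y) :
    (Nat.card P).Coprime (Nat.card Y) := by
  haveI := Fact.mk hq
  haveI := Fact.mk hr
  obtain ⟨n, hn⟩ := IsPGroup.iff_card.mp hP
  obtain ⟨m, hm⟩ := IsPGroup.iff_card.mp hY
  rw [hn, hm]
  exact Nat.Coprime.pow _ _ ((Nat.coprime_primes hq hr).mpr hqr)

theorem isSolvable_of_le {G : Type*} [Group G] {K L : Subgroup G} (h : K ≤ L)
    (hL : Group.IsSolvable L) : Group.IsSolvable K :=
  haveI := hL
  Group.isSolvable_of_isSolvable_injective (f := inclusion h) (inclusion_injective h)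

/-- The case `O_q(O) = 1`. -/
theorem commutator_eq_bot {G : Type*} [Group G] [Finite G] {O P : Subgroup G} {q : ℕ}
    (hq : q.Prime) (hO : Odd (Nat.card O)) (hs : Group.IsSolvable O) {t : G} (ht : IsInv t)
    (htO : t ∈ normalizer (O : Set G)) (hcore : ∀ X ≤ O, IsPGroup q X →
      O ≤ normalizer (X : Set G) → X = ⊥) (hPO : P ≤ O) (hP : IsPGroup q P)
    (htP : t ∈ normalizer (P : Set G))
    (hC : O ⊓ centralizer ({t} : Set G) ≤ normalizer (P : Set G)) :
    ⁅P, zpowers t⁆ = ⊥ := by
  have hPo : Odd (Nat.card P) := odd_of_le hPO hO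
  set E : Subgroup G := ⁅P, zpowers t⁆ with hE
  have hEP : E ≤ P := comm_le htP
  have hEE : ⁅E, zpowers t⁆ = E := comm_comm hPo ht htP
  have htE : t ∈ normalizer (E : Set G) :=
    (Lib.CoprimeCommutator.right_le_normalizer_commutator P (zpowers t)) (mem_zpowers t)
  have hEq : IsPGroup q E := hP.to_le hEP
  have h1 : fittingOf O ≤ centralizer (E : Set G) := by
    rw [fittingOf_le_iff]
    intro r hr
    by_cases hrq : r = q
    · subst hrq
      rw [hcore (piCoreOf {r} O) (piCoreOf_le _ _) (isPGroup_piCoreOf hr O)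
        (le_normalizer_piCoreOf _ _)]
      exact bot_le
    · rw [le_centralizer_iff]
      have hYO : piCoreOf {r} O ≤ O := piCoreOf_le _ _
      have hYq : IsPGroup r (piCoreOf {r} O) := isPGroup_piCoreOf hr O
      have hPY : P ≤ normalizer (piCoreOf {r} O : Set G) := hPO.trans (le_normalizer_piCoreOf _ _)
      refine le_centralizer_of_fixed (odd_of_le hYO hO) (isSolvable_of_le hYO hs) ht
        (normalizer_le_normalizer_piCoreOf _ _ htO) (hEP.trans hPY)
        (coprime_of_isPGroup hq hr (fun h => hrq h.symm) hEq hYq) hEE.ge ?_ htE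
      intro e he
      rw [mem_centralizer_iff]
      rintro c ⟨hcY, hct⟩
      have hcn : c ∈ normalizer (P : Set G) := hC (mem_inf.mpr ⟨hYO hcY, hct⟩)
      have h3 : c * e * c⁻¹ * e⁻¹ ∈ P ⊓ piCoreOf {r} O := by
        refine mem_inf.mpr ⟨P.mul_mem (conj_mem_of_mem_normalizer hcn (hEP he))
          (P.inv_mem (hEP he)), ?_⟩
        have h4 : c * e * c⁻¹ * e⁻¹ = c * (e * c⁻¹ * e⁻¹) := by group
        rw [h4]
        exact mul_mem hcY (conj_mem_of_mem_normalizer (hPY (hEP he)) (inv_mem hcY))
      rw [disjoint_of_isPGroup hq hr (fun h => hrq h.symm) hP hYq, mem_bot] at h3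
      have h4 : c * e = (c * e * c⁻¹ * e⁻¹) * (e * c) := by group
      rw [h4, h3, one_mul]
  have h2 : E ≤ fittingOf O := by
    refine le_trans (le_inf (hEP.trans hPO) ?_) (inf_centralizer_fittingOf_le hs)
    rw [le_centralizer_iff]
    exact h1
  have h3 := le_core_of_le_fittingOf hq h2 hEq
  rw [hcore (piCoreOf {q} O) (piCoreOf_le _ _) (isPGroup_piCoreOf hq O)
    (le_normalizer_piCoreOf _ _)] at h3
  exact le_bot_iff.mp h3

/-- The case of a normal `O_q(O)`. -/
theorem commutator_le_normal {G : Type*} [Group G] [Finite G] {O P Z : Subgroup G} [hZn : Z.Normal]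
    {q : ℕ} (hq : q.Prime) (hO : Odd (Nat.card O)) (hs : Group.IsSolvable O) {t : G}
    (ht : IsInv t) (htO : t ∈ normalizer (O : Set G)) (hZO : Z ≤ O) (hZ : IsPGroup q Z)
    (hcore : ∀ X ≤ O, IsPGroup q X → O ≤ normalizer (X : Set G) → X ≤ Z) (hPO : P ≤ O)
    (hP : IsPGroup q P) (htP : t ∈ normalizer (P : Set G))
    (hC : O ⊓ centralizer ({t} : Set G) ≤ normalizer (P : Set G)) :
    ⁅P, zpowers t⁆ ≤ Z := by
  haveI := Fact.mk hq
  set f : G →* G ⧸ Z := QuotientGroup.mk' Z with hf
  have hfs : Function.Surjective f := QuotientGroup.mk'_surjective Z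
  have hker : f.ker = Z := QuotientGroup.ker_mk' Z
  have hconj : ∀ {K : Subgroup G} {g : G}, g ∈ normalizer (K : Set G) →
      f g ∈ normalizer ((K.map f : Subgroup (G ⧸ Z)) : Set (G ⧸ Z)) := by
    intro K g hg
    exact (le_normalizer_map f) ⟨g, hg, rfl⟩
  have h1 : ⁅P.map f, zpowers (f t)⁆ = ⊥ := by
    refine commutator_eq_bot hq (O := O.map f) ?_ ?_ ?_ (hconj htO) ?_ (map_mono hPO)
      (hP.map f) (hconj htP) ?_
    · exact hO.of_dvd_nat (card_map_dvd O f)
    · haveI := hs
      exact Group.isSolvable_of_surjective (f := f.subgroupMap O) (f.subgroupMap_surjective O)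
    · refine ⟨by rw [← map_mul, ht.1, map_one], fun h => ?_⟩
      have h2 : t ∈ Z := (QuotientGroup.eq_one_iff t).mp h
      exact ht.2 (eq_one_of_sq (odd_of_le hZO hO) h2 ht.1)
    · intro X hX hXq hXn
      have h2 : X.comap f ≤ Z := by
        refine hcore _ ?_ ?_ ?_
        · intro x hx
          obtain ⟨o, ho, hox⟩ := hX hx
          have h3 : o⁻¹ * x ∈ Z := by
            rw [← hker, MonoidHom.mem_ker, map_mul, map_inv, hox, inv_mul_cancel]
          have h4 : x = o * (o⁻¹ * x) := by group
          rw [h4]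
          exact O.mul_mem ho (hZO h3)
        · exact hXq.comap_of_ker_isPGroup f (by rw [hker]; exact hZ)
        · intro o ho
          apply mem_normalizer_of_conj
          intro x hx
          rw [mem_comap, map_mul, map_mul, map_inv]
          exact conj_mem_of_mem_normalizer (hXn ⟨o, ho, rfl⟩) hx
      rw [eq_bot_iff]
      intro x hx
      obtain ⟨y, rfl⟩ := hfs x
      have h3 : y ∈ Z := h2 hx
      rw [mem_bot]
      exact (QuotientGroup.eq_one_iff y).mpr h3
    · rintro _ ⟨⟨o, ho, rfl⟩, hx⟩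
      have hx' : f o * f t = f t * f o := mem_centralizer_iff'.mp hx
      obtain ⟨c, hc, hoc⟩ := Lib.CoprimeCommutator.exists_fixed_in_coset 2 (zpowers t) Z
        ht.isPGroup (by rw [normalizer_eq_top]; exact le_top) (not_two_dvd (odd_of_le hZO hO)) o
        (by
          intro a ha
          have h2 : f (o⁻¹ * (a * o * a⁻¹)) = 1 := by
            have h3 : Commute (f o) (f a) := by
              obtain ⟨n, rfl⟩ := ha
              have h4 : Commute (f o) (f t) := hx'
              have h5 := h4.zpow_right n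
              rw [← map_zpow] at h5
              exact h5
            rw [map_mul, map_mul, map_mul, map_inv, map_inv, ← h3.eq]
            group
          exact (QuotientGroup.eq_one_iff _).mp h2)
      rw [centralizer_zpowers] at hc
      have hcO : c ∈ O := by
        have h2 : c = o * (o⁻¹ * c) := by group
        rw [h2]; exact O.mul_mem ho (hZO hoc)
      have h2 : f c = f o := by
        have h3 : f (o⁻¹ * c) = 1 := (QuotientGroup.eq_one_iff _).mpr hoc
        rw [map_mul, map_inv, inv_mul_eq_one] at h3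
        exact h3.symm
      change f o ∈ _
      rw [← h2]
      exact hconj (hC (mem_inf.mpr ⟨hcO, hc⟩))
  have h2 : (⁅P, zpowers t⁆).map f = ⊥ := by
    rw [map_commutator, MonoidHom.map_zpowers]
    exact h1
  rw [Subgroup.map_eq_bot_iff, hker] at h2
  exact h2

/-- **Lemma (G).** If the involution `t` acts on the solvable group `O` of odd order and `P ≤ O` is a `q`-subgroup
normalised by `t` and by `C_O(t)`, then `[P, t] ≤ O_q(O)`. -/
theorem commutator_le_core {G : Type*} [Group G] [Finite G] {O P : Subgroup G} {q : ℕ}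
    (hq : q.Prime) (hO : Odd (Nat.card O)) (hs : Group.IsSolvable O) {t : G} (ht : IsInv t)
    (htO : t ∈ normalizer (O : Set G)) (hPO : P ≤ O) (hP : IsPGroup q P)
    (htP : t ∈ normalizer (P : Set G))
    (hC : O ⊓ centralizer ({t} : Set G) ≤ normalizer (P : Set G)) :
    ⁅P, zpowers t⁆ ≤ piCoreOf {q} O := by
  haveI := Fact.mk hq
  set Z : Subgroup G := piCoreOf {q} O with hZdef
  have hZO : Z ≤ O := piCoreOf_le _ _
  set N : Subgroup G := normalizer (Z : Set G) with hN
  have hON : O ≤ N := le_normalizer_piCoreOf _ _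
  have htN : t ∈ N := normalizer_le_normalizer_piCoreOf _ _ htO
  have hZN : Z ≤ N := hZO.trans hON
  haveI hZn : (Z.subgroupOf N).Normal := by
    rw [normal_subgroupOf_iff_le_normalizer hZN]
  have hnorm : ∀ {K : Subgroup G} {g : G} (hg : g ∈ N), g ∈ normalizer (K : Set G) →
      (⟨g, hg⟩ : N) ∈ normalizer ((K.subgroupOf N : Subgroup N) : Set N) := by
    intro K g hg hgK
    rw [mem_normalizer_iff]
    intro x
    exact mem_normalizer_iff.mp hgK x
  have h1 : ⁅P.subgroupOf N, zpowers (⟨t, htN⟩ : N)⁆ ≤ Z.subgroupOf N := by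
    refine commutator_le_normal hq (O := O.subgroupOf N) ?_ ?_ ?_ (hnorm htN htO) ?_ ?_ ?_ ?_ ?_
      (hnorm htN htP) ?_
    · rw [Nat.card_congr (subgroupOfEquivOfLe hON).toEquiv]; exact hO
    · haveI := hs
      exact Group.isSolvable_of_isSolvable_injective
        (f := (subgroupOfEquivOfLe hON).toMonoidHom) (subgroupOfEquivOfLe hON).injective
    · exact ⟨Subtype.ext ht.1, fun h => ht.2 (congrArg Subtype.val h)⟩
    · exact comap_mono hZO
    · exact (isPGroup_piCoreOf hq O).of_equiv (subgroupOfEquivOfLe hZN).symm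
    · intro X hX hXq hXn
      have h2 : X.map N.subtype ≤ Z := by
        refine le_core_of_isPGroup hq ?_ ?_ (hXq.map _)
        · rintro _ ⟨x, hx, rfl⟩
          exact hX hx
        · intro o ho
          apply mem_normalizer_of_conj
          rintro _ ⟨x, hx, rfl⟩
          exact ⟨⟨o, hON ho⟩ * x * ⟨o, hON ho⟩⁻¹,
            conj_mem_of_mem_normalizer (hXn (mem_subgroupOf.mpr ho)) hx, rfl⟩
      intro x hx
      exact h2 ⟨x, hx, rfl⟩
    · exact comap_mono hPO
    · exact hP.of_equiv (subgroupOfEquivOfLe (hPO.trans hON)).symm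
    · rintro x ⟨hxO, hxt⟩
      refine hnorm x.2 (hC (mem_inf.mpr ⟨hxO, ?_⟩))
      rw [mem_centralizer_iff']
      exact congrArg Subtype.val (mem_centralizer_iff'.mp hxt)
  have h2 := map_mono (f := N.subtype) h1
  rw [map_commutator, MonoidHom.map_zpowers, map_subgroupOf_eq_of_le (hPO.trans hON),
    map_subgroupOf_eq_of_le hZN] at h2
  exact h2

end Cfsg.Agent.Classification.TypeB.LemG
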