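import Cfsg.Agent.Classification.TypeB.Fusion
import Cfsg.Agent.TwoFusion.DihedralFusion

/-!
# Type B: `O_{q'}(O(M)) ≠ 1` and the overgroup `L` of `S O_q(M)`
-/

set_option autoImplicit false

namespace Cfsg.Agent.Classification.TypeB.Local

open Subgroup Cfsg
open Cfsg.Agent.Classification.TypeB.Basic Cfsg.Agent.Classification.TypeB.LemG
open Cfsg.Agent.Classification.TypeB.Core Cfsg.Agent.Classification.TypeB.Fusion
open Cfsg.Agent.Classification.DihedralCentral Cfsg.Agent.Classification.TransferSign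
open Cfsg.Agent.OddOrderLocal.PiCoreOf
open Cfsg.Agent.OddOrderLocal
open Cfsg.Agent.OddOrderLocal.FitCores (isPGroup_piCoreOf le_core_of_isPGroup fittingOf_le_iff
  inf_centralizer_fittingOf_le le_centralizer_of_centralizes_fitting)
open Cfsg.Agent.Blocks.SylowIn (exists_sylow_map_eq_iff eq_of_normalizer_inf_le
  card_centralizer_singleton_conj)

universe u

variable {G : Type u} [Group G] [Finite G]

theorem core_oc_le {q : ℕ} (hq : q.Prime) (M : Subgroup G) :
    piCoreOf {q} (oc M) ≤ piCoreOf {q} M := by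
  haveI := Fact.mk hq
  refine le_core_of_isPGroup hq ((piCoreOf_le _ _).trans (oc_le _)) ?_ (isPGroup_piCoreOf hq _)
  exact (le_normalizer_oc _).trans (normalizer_le_normalizer_piCoreOf _ _)

/-- `F(O(M)) ≤ O_q(M)` if `O_{q'}(O(M)) = 1`. -/
theorem fittingOf_oc_le {q : ℕ} (hq : q.Prime) {M : Subgroup G} (hY : yc q M = ⊥) :
    fittingOf (oc M) ≤ piCoreOf {q} M := by
  rw [fittingOf_le_iff]
  intro r hr
  haveI := Fact.mk hr
  by_cases hrq : r = q
  · subst hrq
    exact core_oc_le hr M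
  · refine le_trans ?_ (show (⊥ : Subgroup G) ≤ _ from bot_le)
    rw [← hY]
    refine FitCores.le_core_of_coprime (piCoreOf_le _ _) (le_normalizer_piCoreOf _ _) ?_
    exact FitCores.coprime_of_isPGroup hr
      (fun h3 => hrq ((Nat.prime_dvd_prime_iff_eq hr hq).mp h3)) (isPGroup_piCoreOf hr _)

/-- an involution of a normal subgroup of `M`, central in `S`. -/
theorem exists_central_involution (S : Sylow 2 G) {M C : Subgroup G} (hSM : (S : Subgroup G) ≤ M)
    (hCM : C ≤ M) (hMC : M ≤ normalizer (C : Set G)) (h2 : 2 ∣ Nat.card C) :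
    ∃ z ∈ C, z ∈ (S : Subgroup G) ∧ IsInv z ∧ ∀ s ∈ (S : Subgroup G), s * z = z * s := by
  haveI : Fact (Nat.Prime 2) := ⟨Nat.prime_two⟩
  obtain ⟨⟨z₁, hz₁C⟩, hz₁⟩ := exists_prime_orderOf_dvd_card' 2 h2
  rw [Subgroup.orderOf_mk] at hz₁
  have hz₁1 : z₁ ≠ 1 := by
    rintro rfl
    rw [orderOf_one] at hz₁
    omega
  have hz₁2 : z₁ * z₁ = 1 := by
    have := pow_orderOf_eq_one z₁
    rwa [hz₁, pow_two] at this
  obtain ⟨⟨m, hmM⟩, hm⟩ := TwoFusion.DihedralFusion.exists_conj_mem_sylow (S.subtype hSM)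
    (⟨z₁, hCM hz₁C⟩ : M) (Subtype.ext hz₁2)
  have hmS : m * z₁ * m⁻¹ ∈ (S : Subgroup G) := hm
  have hmC : m * z₁ * m⁻¹ ∈ C := conj_mem_of_mem_normalizer (hMC hmM) hz₁C
  set D : Subgroup (S : Subgroup G) := C.subgroupOf (S : Subgroup G) with hD
  have hDn : D.Normal := by
    constructor
    intro x hx s
    have hx' : (x : G) ∈ C := hx
    have h3 : (s : G) * x * (s : G)⁻¹ ∈ C := conj_mem_of_mem_normalizer (hMC (hSM s.2)) hx'
    exact h3
  have hD1 : D ≠ ⊥ := by
    intro h
    have h3 : (⟨m * z₁ * m⁻¹, hmS⟩ : (S : Subgroup G)) ∈ D := hmC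
    rw [h, mem_bot] at h3
    have h4 : m * z₁ * m⁻¹ = 1 := congrArg Subtype.val h3
    exact (IsInv.conj ⟨hz₁2, hz₁1⟩ m).2 h4
  haveI : Group.IsNilpotent (S : Subgroup G) := S.2.isNilpotent
  have h3 := Lib.NormalAbelian.normal_inf_center_ne_bot D hD1
  set E : Subgroup (S : Subgroup G) := D ⊓ Subgroup.center (S : Subgroup G) with hE
  have hE2 : IsPGroup 2 E := S.2.to_subgroup E
  have hEdvd : 2 ∣ Nat.card E := by
    haveI : Nontrivial E := (nontrivial_iff_ne_bot E).mpr h3
    obtain ⟨n, hn, hc⟩ := hE2.nontrivial_iff_card.mp inferInstance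
    rw [hc]; exact dvd_pow_self 2 hn.ne'
  obtain ⟨⟨⟨z, hzS⟩, hzE⟩, hz⟩ := exists_prime_orderOf_dvd_card' 2 hEdvd
  rw [Subgroup.orderOf_mk, Subgroup.orderOf_mk] at hz
  have hz1 : z ≠ 1 := by
    rintro rfl
    rw [orderOf_one] at hz
    omega
  have hz2 : z * z = 1 := by
    have := pow_orderOf_eq_one z
    rwa [hz, pow_two] at this
  refine ⟨z, hzE.1, hzS, ⟨hz2, hz1⟩, fun s hs => ?_⟩
  have h4 := (Subgroup.mem_center_iff.mp hzE.2) ⟨s, hs⟩
  exact congrArg Subtype.val h4

/-- The setting of type B. -/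
structure Setting (q : ℕ) (S : Sylow 2 G) (t u : G) (M : Subgroup G) : Prop where
  sub : SubDihedral G
  prime : q.Prime
  odd : q ≠ 2
  simple : ∀ N : Subgroup G, N.Normal → N = ⊥ ∨ N = ⊤
  solv : ∀ X : Subgroup G, Odd (Nat.card X) → Group.IsSolvable X
  trans : ∀ x y : G, IsInv x → IsInv y → ∃ g : G, g * x * g⁻¹ = y
  memt : t ∈ (S : Subgroup G)
  memu : u ∈ (S : Subgroup G)
  invt : IsInv t
  invu : IsInv u
  ne : t ≠ u
  central : ∀ s ∈ (S : Subgroup G), s * t = t * s
  cent : centralizer ({t} : Set G) ≤ M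
  coatom : IsCoatom M
  closed : OddClosed M
  typeB : ec q M t ≠ ⊥

namespace Setting

variable {q : ℕ} {S : Sylow 2 G} {t u : G} {M : Subgroup G}

theorem le (h : Setting q S t u M) : (S : Subgroup G) ≤ M := fun s hs =>
  h.cent (mem_centralizer_iff'.mpr (h.central s hs))

theorem core_le_oc (h : Setting q S t u M) : piCoreOf {q} M ≤ oc M :=
  le_oc_of_oddClosed h.closed (piCoreOf_le _ _)
    (odd_of_isPGroup h.prime h.odd (isPGroup_piCoreOf h.prime _))

theorem not_le (h : Setting q S t u M) : ¬ piCoreOf {q} M ≤ centralizer ({t} : Set G) :=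
  fun h1 => h.typeB (comm_eq_bot_iff.mpr h1)

/-- `C_M(O_q(M)) ≤ O_q(M)` if `Y = 1`. -/
theorem inf_centralizer_le (h : Setting q S t u M) (hY : yc q M = ⊥) :
    M ⊓ centralizer (piCoreOf {q} M : Set G) ≤ piCoreOf {q} M := by
  set Q : Subgroup G := piCoreOf {q} M with hQ
  set C : Subgroup G := M ⊓ centralizer (Q : Set G) with hC
  have h1 : oc M ⊓ centralizer (Q : Set G) ≤ Q :=
    (inf_le_inf_left _ (centralizer_le (fittingOf_oc_le h.prime hY))).trans
      ((inf_centralizer_fittingOf_le (h.solv _ (odd_oc M))).trans (fittingOf_oc_le h.prime hY))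
  have hMC : M ≤ normalizer (C : Set G) := by
    intro x hx
    apply mem_normalizer_of_conj
    rintro y ⟨hyM, hyC⟩
    refine mem_inf.mpr ⟨M.mul_mem (M.mul_mem hx hyM) (M.inv_mem hx), ?_⟩
    rw [mem_centralizer_iff]
    intro a ha
    have h3 : x⁻¹ * a * x ∈ Q := by
      have := conj_mem_of_mem_normalizer (le_normalizer_piCoreOf {q} M (M.inv_mem hx)) ha
      simpa using this
    have h4 := mem_centralizer_iff.mp hyC _ h3
    have h5 : a * (x * y * x⁻¹) = x * ((x⁻¹ * a * x) * y) * x⁻¹ := by group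
    rw [h5, h4]; group
  have hodd : Odd (Nat.card C) := by
    rw [← Nat.not_even_iff_odd, even_iff_two_dvd]
    intro h2
    obtain ⟨z, hzC, hzS, hz, hzc⟩ := exists_central_involution S h.le inf_le_left hMC h2
    -- `z` centralises `O(M)`
    have hzQ : z ∈ centralizer (Q : Set G) := (inf_le_right : C ≤ _) hzC
    have hzM : z ∈ M := (inf_le_left : C ≤ _) hzC
    have h3 : zpowers z ≤ centralizer (oc M : Set G) := by
      refine le_centralizer_of_centralizes_fitting
        (by rw [zpowers_le]; exact le_normalizer_oc M hzM) (h.solv _ (odd_oc M))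
        (coprime_of_odd (odd_oc M) hz) ?_
      rw [zpowers_le]
      exact centralizer_le (fittingOf_oc_le h.prime hY) hzQ
    rw [zpowers_le_centralizer_iff] at h3
    have h4 : M ≤ centralizer ({z} : Set G) := by
      intro x hx
      obtain ⟨s, hs, k, hk, rfl⟩ := exists_mul h.closed S h.le hx
      exact mul_mem (mem_centralizer_iff'.mpr (hzc s hs)) (h3 hk)
    obtain ⟨g, hg⟩ := h.trans t z h.invt hz
    have h5 : Nat.card (centralizer ({z} : Set G)) = Nat.card (centralizer ({t} : Set G)) := by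
      rw [← hg]; exact card_centralizer_singleton_conj _ _
    have h6 : centralizer ({t} : Set G) = M := by
      apply eq_of_le_of_card_ge h.cent
      rw [← h5]
      exact Nat.card_le_card_of_injective _ (inclusion_injective h4)
    exact h.not_le ((piCoreOf_le _ _).trans h6.ge)
  exact (le_inf (le_oc_of_oddClosed h.closed inf_le_left hodd) inf_le_right).trans h1

/-- the `ZJ`-theorem in `M`. -/
theorem le_normalizer_zj (h : Setting q S t u M) (hY : yc q M = ⊥) {T : Subgroup G}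
    (hT : IsSyl q (oc M) T) : M ≤ normalizer (centerThompsonOf q T : Set G) := by
  haveI := Fact.mk h.prime
  obtain ⟨hTR, hTq, hTmax⟩ := isSyl_iff.mp hT
  obtain ⟨P, hP⟩ : IsSyl q M T := isSyl_iff.mpr ⟨hTR.trans (oc_le M), hTq, fun X hX hXq hTX =>
    hTmax X (le_oc_of_oddClosed h.closed hX (odd_of_isPGroup h.prime h.odd hXq)) hXq hTX⟩
  have hsub : SubDihedral M := subDihedral_of_injective M.subtype M.subtype_injective h.sub
  have h1 : (centerThompsonOf q (P : Subgroup M)).Normal := by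
    refine PLocal.ZJElem.centerThompsonOf_normal h.odd P ?_ ?_
    · intro V _ hV a _ ha
      exact PLocal.StableOfNotInvolves.isPStableOn_of_not_involves h.odd
        (NoSL2.not_inv_sl2 hsub h.odd) V hV a ha
    · intro x hx
      have h2 : (x : G) ∈ M ⊓ centralizer (piCoreOf {q} M : Set G) := by
        refine mem_inf.mpr ⟨x.2, ?_⟩
        rw [← FitCores.map_pCore_eq h.prime, mem_centralizer_iff]
        rintro _ ⟨y, hy, rfl⟩
        exact congrArg Subtype.val (mem_centralizer_iff.mp hx y hy)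
      have h3 := h.inf_centralizer_le hY h2
      rw [← FitCores.map_pCore_eq h.prime] at h3
      obtain ⟨y, hy, hyx⟩ := h3
      have h4 : y = x := Subtype.ext hyx
      exact h4 ▸ hy
  have h2 : centerThompsonOf q T = (centerThompsonOf q (P : Subgroup M)).map M.subtype := by
    rw [← hP, PLocal.ZJElem.centerThompsonOf_map q M.subtype_injective]
  intro x hx
  rw [h2]
  apply mem_normalizer_of_conj
  rintro _ ⟨y, hy, rfl⟩
  exact ⟨⟨x, hx⟩ * y * ⟨x, hx⟩⁻¹, h1.conj_mem y hy _, rfl⟩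

/-- The `S`-invariant `q`-subgroups `T ≤ T'`. -/
theorem exists_pair (h : Setting q S t u M) : ∃ T T' : Subgroup G, IsSyl q (oc M) T ∧
    (S : Subgroup G) ≤ normalizer (T : Set G) ∧ T ≤ T' ∧ IsPGroup q T' ∧
    (S : Subgroup G) ≤ normalizer (T' : Set G) ∧
    (∀ X : Subgroup G, IsPGroup q X → (S : Subgroup G) ≤ normalizer (X : Set G) →
      T' ≤ X → X = T') ∧ piCoreOf {q} M ≤ T := by
  haveI := Fact.mk h.prime
  haveI : Fact (Nat.Prime 2) := ⟨Nat.prime_two⟩
  have hQq : IsPGroup q (piCoreOf {q} M) := isPGroup_piCoreOf h.prime _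
  obtain ⟨T, hT, hST, hQT⟩ := Lib.PGroupCoprimeAction.exists_invariant_sylow_ge (p := 2) (q := q)
    (A := (S : Subgroup G)) (H := oc M) (R := piCoreOf {q} M) S.2 (not_two_dvd (odd_oc M))
    (fun b hb u hu => conj_mem_of_mem_normalizer (le_normalizer_oc M (h.le hb)) hu) h.core_le_oc
    hQq (fun b hb u hu => conj_mem_of_mem_normalizer (le_normalizer_piCoreOf _ _ (h.le hb)) hu)
  have hST' : (S : Subgroup G) ≤ normalizer (T : Set G) := fun b hb =>
    mem_normalizer_of_conj (hST b hb)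
  have hTq := (isSyl_iff.mp hT).2.1
  obtain ⟨T', hTT', ⟨h1, h2⟩, hmax⟩ := (Set.toFinite
    {X : Subgroup G | IsPGroup q X ∧ (S : Subgroup G) ≤ normalizer (X : Set G)}).exists_le_maximal
    (show T ∈ _ from ⟨hTq, hST'⟩)
  exact ⟨T, T', hT, hST', hTT', h1, h2, fun X hX hSX hle =>
    le_antisymm (hmax ⟨hX, hSX⟩ hle) hle, hQT⟩

theorem normalizer_ne_top (h : Setting q S t u M) {X : Subgroup G} (hX : X ≠ ⊥)
    (ho : Odd (Nat.card X)) : normalizer (X : Set G) ≠ ⊤ := by
  intro h1
  have hn : X.Normal := normalizer_eq_top_iff.mp h1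
  rcases h.simple X hn with h2 | h2
  · exact hX h2
  · rw [h2] at ho
    exact Fam.top_not_odd t h.invt ho

theorem zj_ne_bot (h : Setting q S t u M) {T : Subgroup G} (hT : IsPGroup q T)
    (hQT : piCoreOf {q} M ≤ T) : centerThompsonOf q T ≠ ⊥ := by
  haveI := Fact.mk h.prime
  apply Cfsg.Agent.S0118.centerThompsonOf_ne_bot hT
  intro h1
  apply h.not_le
  rw [h1, le_bot_iff] at hQT
  rw [hQT]
  exact bot_le

/-- `Y ≠ 1` -/
theorem yc_ne_bot (h : Setting q S t u M) : yc q M ≠ ⊥ := by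
  intro hY
  haveI := Fact.mk h.prime
  obtain ⟨T, T', hT, hST, hTT', hT'q, hST', hmax, hQT⟩ := h.exists_pair
  obtain ⟨hTR, hTq, hTmax⟩ := isSyl_iff.mp hT
  have h1 := h.le_normalizer_zj hY hT
  have hZo : Odd (Nat.card (centerThompsonOf q T)) :=
    odd_of_le (PLocal.ZJElem.centerThompsonOf_le q T) (odd_of_isPGroup h.prime h.odd hTq)
  have h2 : normalizer (centerThompsonOf q T : Set G) = M := by
    rcases h.coatom.le_iff.mp h1 with h3 | h3
    · exact absurd h3 (h.normalizer_ne_top (h.zj_ne_bot hTq hQT) hZo)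
    · exact h3
  have h3 : T' = T := by
    refine eq_of_normalizer_inf_le hT'q hTT' ?_
    have h4 : normalizer (T : Set G) ⊓ T' ≤ M := by
      rw [← h2]
      exact inf_le_left.trans (PLocal.ZJElem.normalizer_le_normalizer_centerThompsonOf q T)
    have h5 : IsPGroup q ↥(normalizer (T : Set G) ⊓ T') := hT'q.to_le inf_le_right
    exact (hTmax _ (le_oc_of_oddClosed h.closed h4 (odd_of_isPGroup h.prime h.odd h5)) h5
      (le_inf le_normalizer hTT')).le
  have h4 : T' ≤ centralizer ({t} : Set G) := by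
    refine le_centralizer_of_oddClosed h.sub h.prime h.odd S h.memt h.memu h.invt h.invu h.ne
      h.central h.trans h.cent h.closed hT hTT' hT'q hST' hmax ?_
    rw [h3, h2]
    exact h.closed
  exact h.not_le (hQT.trans (hTT'.trans h4))

/-- The overgroup `L` and the fused four-group. -/
theorem exists_fused (h : Setting q S t u M) : ∃ L : Subgroup G, L ≠ ⊤ ∧ t ∈ L ∧
    piCoreOf {q} M ≤ L ∧ ∃ v g : G, IsInv v ∧ t * v = v * t ∧ t ≠ v ∧ g ∈ L ∧
      g * t * g⁻¹ = v ∧ g * v * g⁻¹ = t * v := by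
  haveI := Fact.mk h.prime
  obtain ⟨T, T', hT, hST, hTT', hT'q, hST', hmax, hQT⟩ := h.exists_pair
  set L : Subgroup G := normalizer (centerThompsonOf q T' : Set G) with hL
  have hNT' : normalizer (T' : Set G) ≤ L :=
    PLocal.ZJElem.normalizer_le_normalizer_centerThompsonOf q T'
  have hSL : (S : Subgroup G) ≤ L := hST'.trans hNT'
  have hno : ¬ OddClosed L := fun h1 => h.not_le (hQT.trans (hTT'.trans
    (le_centralizer_of_oddClosed h.sub h.prime h.odd S h.memt h.memu h.invt h.invu h.ne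
      h.central h.trans h.cent h.closed hT hTT' hT'q hST' hmax h1)))
  have hL1 : L ≠ ⊤ := h.normalizer_ne_top (h.zj_ne_bot hT'q (hQT.trans hTT'))
    (odd_of_le (PLocal.ZJElem.centerThompsonOf_le q T') (odd_of_isPGroup h.prime h.odd hT'q))
  obtain ⟨⟨v, hvL⟩, ⟨g, hgL⟩, hv, hc, hne, h1, h2⟩ := Fused.exists_fused
    (subDihedral_of_injective L.subtype L.subtype_injective h.sub) hno (S.subtype hSL)
    (t := (⟨t, hSL h.memt⟩ : L)) h.memt
    ⟨Subtype.ext h.invt.1, fun h3 => h.invt.2 (congrArg Subtype.val h3)⟩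
    (fun s hs => Subtype.ext (h.central s hs))
  refine ⟨L, hL1, hSL h.memt, hQT.trans (hTT'.trans (le_normalizer.trans hNT')), v, g,
    ⟨congrArg Subtype.val hv.1, fun h3 => hv.2 (Subtype.ext h3)⟩, congrArg Subtype.val hc,
    fun h3 => hne (Subtype.ext h3), hgL, congrArg Subtype.val h1, congrArg Subtype.val h2⟩

end Setting

end Cfsg.Agent.Classification.TypeB.Local
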