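import Cfsg.Agent.Classification.TypeB.SigPSL
import Cfsg.Agent.StandardComponent.AltAut
import Cfsg.Agent.TwoFusion.A7NoSwap

/-!
# The signalizer condition (S) in groups with a normal subgroup `L ≅ A₇`
-/

set_option autoImplicit false

namespace Cfsg.Agent.Classification.TypeB.SigA7

open Subgroup Cfsg.Agent.Classification.TypeB.Basic
open Cfsg.Agent.Classification.DihedralCentral Cfsg.Agent.Classification.DihReduction
open Cfsg.Agent.TwoFusion.A7NoSwap (t0 v1 v3 c0)

theorem mem_normalizer_comm {Y : Type*} [Group Y] [Finite Y] {B : Subgroup Y} {w x : Y}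
    (hx : x * w = w * x) (hB : x ∈ normalizer (B : Set Y)) :
    x ∈ normalizer ((⁅B, zpowers w⁆ : Subgroup Y) : Set Y) := by
  apply mem_normalizer_of_conj
  intro y hy
  have h1 : ⁅B, zpowers w⁆ ≤ ⁅B, zpowers w⁆.comap (MulAut.conj x).toMonoidHom := by
    rw [commutator_le]
    intro a ha b hb
    rw [mem_comap, map_commutatorElement]
    refine commutator_mem_commutator (conj_mem_of_mem_normalizer hB ha) ?_
    obtain ⟨n, rfl⟩ := hb
    have h2 : Commute x w := hx
    have h3 : x * w ^ n * x⁻¹ = w ^ n := by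
      rw [(h2.zpow_right n).eq]; group
    change x * w ^ n * x⁻¹ ∈ _
    rw [h3]
    exact ⟨n, rfl⟩
  exact h1 hy

/-- commutators of elements normalising a cyclic subgroup centralise it. -/
theorem comm_centralizes {Y : Type*} [Group Y] {D : Subgroup Y} [IsCyclic D] {a b : Y}
    (ha : a ∈ normalizer (D : Set Y)) (hb : b ∈ normalizer (D : Set Y)) :
    D ≤ centralizer ({a * b * a⁻¹ * b⁻¹} : Set Y) := by
  obtain ⟨d, hd⟩ := IsCyclic.exists_zpow_surjective (G := D)
  have key : ∀ g ∈ normalizer (D : Set Y), ∃ i : ℤ, ∀ x ∈ D, g * x * g⁻¹ = x ^ i := by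
    intro g hg
    obtain ⟨i, hi⟩ := hd ⟨g * (d : Y) * g⁻¹, conj_mem_of_mem_normalizer hg d.2⟩
    have hi' : (d : Y) ^ i = g * (d : Y) * g⁻¹ := by
      have := congrArg Subtype.val hi
      rwa [Subgroup.coe_zpow] at this
    refine ⟨i, fun x hx => ?_⟩
    obtain ⟨j, hj⟩ := hd ⟨x, hx⟩
    have hj' : (d : Y) ^ j = x := by
      have := congrArg Subtype.val hj
      rwa [Subgroup.coe_zpow] at this
    rw [← hj', ← conj_zpow, ← hi', ← zpow_mul, ← zpow_mul, mul_comm]
  obtain ⟨i, hi⟩ := key a ha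
  obtain ⟨j, hj⟩ := key b hb
  have hab : ∀ x ∈ D, (a * b) * x * (a * b)⁻¹ = (b * a) * x * (b * a)⁻¹ := by
    intro x hx
    have e1 : (a * b) * x * (a * b)⁻¹ = a * (b * x * b⁻¹) * a⁻¹ := by group
    have e2 : (b * a) * x * (b * a)⁻¹ = b * (a * x * a⁻¹) * b⁻¹ := by group
    rw [e1, e2, hj x hx, hi x hx, hi _ (zpow_mem hx j), hj _ (zpow_mem hx i), ← zpow_mul,
      ← zpow_mul, mul_comm]
  intro x hx
  rw [mem_centralizer_iff']
  obtain ⟨y, hy⟩ : ∃ y, y = (b * a)⁻¹ * x * (b * a) := ⟨_, rfl⟩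
  have hyD : y ∈ D := by
    have h1 : (b * a)⁻¹ ∈ normalizer (D : Set Y) := inv_mem (mul_mem hb ha)
    have h2 := conj_mem_of_mem_normalizer h1 hx
    rw [inv_inv] at h2
    rw [hy]; exact h2
  have h1 := hab y hyD
  have h2 : (b * a) * y * (b * a)⁻¹ = x := by rw [hy]; group
  rw [h2] at h1
  have h3 : a * b * a⁻¹ * b⁻¹ * x = (a * b * a⁻¹ * b⁻¹ * x * (a * b * a⁻¹ * b⁻¹)⁻¹) *
      (a * b * a⁻¹ * b⁻¹) := by group
  have h4 : a * b * a⁻¹ * b⁻¹ * x * (a * b * a⁻¹ * b⁻¹)⁻¹ = (a * b) * y * (a * b)⁻¹ := by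
    rw [hy]; group
  rw [h3, h4, h1]

theorem le_centralizer_of_data {Y : Type*} [Group Y] [Finite Y] (hcard : Nat.card Y = 2520)
    {w a b c : Y} (hw : IsInv w) (ha : a * w = w * a) (hb : b * w = w * b)
    (hab : a * b * a⁻¹ * b⁻¹ = w) (hc : c * w = w * c) (hc3 : c ^ 3 = 1) (hc1 : c ≠ 1)
    {r : ℕ} (hr : r.Prime) (hr2 : r ≠ 2) {B : Subgroup Y} (hB : IsPGroup r B)
    (hN : centralizer ({w} : Set Y) ≤ normalizer (B : Set Y)) :
    B ≤ centralizer ({w} : Set Y) := by
  have : Fact r.Prime := ⟨hr⟩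
  have hwB : w ∈ normalizer (B : Set Y) := hN (mem_centralizer_iff'.mpr rfl)
  have hBo : Odd (Nat.card B) := by
    obtain ⟨k, hk⟩ := IsPGroup.iff_card.mp hB
    rw [hk]
    exact (hr.odd_of_ne_two hr2).pow
  obtain ⟨D, hD⟩ : ∃ D, D = ⁅B, zpowers w⁆ := ⟨_, rfl⟩
  have hDB : D ≤ B := by rw [hD]; exact comm_le hwB
  have hDD : ⁅D, zpowers w⁆ = D := by rw [hD]; exact comm_comm hBo hw hwB
  have hDr : IsPGroup r D := hB.to_le hDB
  have hND : centralizer ({w} : Set Y) ≤ normalizer (D : Set Y) := by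
    intro x hx
    rw [hD]
    exact mem_normalizer_comm (mem_centralizer_iff'.mp hx) (hN hx)
  by_contra hcon
  have hD1 : D ≠ ⊥ := by
    intro h
    rw [hD, comm_eq_bot_iff] at h
    exact hcon h
  -- `D` is not cyclic
  have hncyc : ¬ IsCyclic D := by
    intro hcyc
    apply hD1
    rw [← hDD, comm_eq_bot_iff]
    have h1 := comm_centralizes (D := D) (hND (mem_centralizer_iff'.mpr ha))
      (hND (mem_centralizer_iff'.mpr hb))
    rwa [hab] at h1
  obtain ⟨k, hk⟩ := IsPGroup.iff_card.mp hDr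
  have hdvd : r ^ k ∣ 2520 := by
    rw [← hk, ← hcard]
    exact card_subgroup_dvd_card D
  have hk0 : k ≠ 0 := by
    rintro rfl
    rw [pow_zero, Subgroup.card_eq_one] at hk
    exact hD1 hk
  have hk1 : k ≠ 1 := by
    rintro rfl
    rw [pow_one] at hk
    exact hncyc (isCyclic_of_prime_card hk)
  have hr3 : r = 3 ∧ k = 2 := by
    have h2k : r ^ 2 ∣ 2520 := dvd_trans (pow_dvd_pow r (by omega)) hdvd
    have hr5 : r ∣ 2520 := dvd_trans (dvd_pow_self r (by norm_num)) h2k
    have hrr : r = 3 := by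
      have h1 : r ∣ 2 ^ 3 * 3 ^ 2 * 5 * 7 := by norm_num; exact hr5
      rcases (Nat.Prime.dvd_mul hr).mp h1 with h1 | h1
      · rcases (Nat.Prime.dvd_mul hr).mp h1 with h1 | h1
        · rcases (Nat.Prime.dvd_mul hr).mp h1 with h1 | h1
          · exact absurd ((Nat.prime_dvd_prime_iff_eq hr Nat.prime_two).mp
              (hr.dvd_of_dvd_pow h1)) hr2
          · exact (Nat.prime_dvd_prime_iff_eq hr Nat.prime_three).mp (hr.dvd_of_dvd_pow h1)
        · have := (Nat.prime_dvd_prime_iff_eq hr (by norm_num)).mp h1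
          subst this
          norm_num at h2k
      · have := (Nat.prime_dvd_prime_iff_eq hr (by norm_num)).mp h1
        subst this
        norm_num at h2k
    subst hrr
    refine ⟨rfl, ?_⟩
    by_contra hne
    have h3 : 3 ≤ k := by omega
    have := dvd_trans (pow_dvd_pow 3 h3) hdvd
    norm_num at this
  obtain ⟨rfl, rfl⟩ := hr3
  -- `D` abelian
  have hcomm : ∀ x y : D, x * y = y * x :=
    (IsPGroup.isMulCommutative_of_card_eq_prime_sq hk).is_comm.comm
  have hDab : ⁅D, D⁆ = ⊥ := by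
    rw [commutator_eq_bot_iff_le_centralizer]
    intro x hx
    rw [mem_centralizer_iff]
    intro y hy
    exact congrArg Subtype.val (hcomm ⟨y, hy⟩ ⟨x, hx⟩)
  -- `c ∈ D`
  have hcN : zpowers c ≤ normalizer (D : Set Y) := by
    rw [zpowers_le]
    exact hND (mem_centralizer_iff'.mpr hc)
  have hcp : IsPGroup 3 (zpowers c) := by
    apply IsPGroup.of_card (n := 1)
    rw [Nat.card_zpowers, pow_one]
    exact orderOf_eq_prime hc3 hc1
  have hsup : IsPGroup 3 (D ⊔ zpowers c : Subgroup Y) := IsPGroup.to_sup_of_normal_left' hDr hcp hcN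
  have hcD : c ∈ D := by
    obtain ⟨j, hj⟩ := IsPGroup.iff_card.mp hsup
    have h1 : 3 ^ j ∣ 2520 := by
      rw [← hj, ← hcard]
      exact card_subgroup_dvd_card _
    have h2 : j ≤ 2 := by
      by_contra h3
      have := dvd_trans (pow_dvd_pow 3 (show 3 ≤ j by omega)) h1
      norm_num at this
    have h3 : Nat.card (D ⊔ zpowers c : Subgroup Y) ≤ Nat.card D := by
      rw [hj, hk]
      exact Nat.pow_le_pow_right (by norm_num) h2
    have h4 : D = D ⊔ zpowers c := eq_of_le_of_card_ge le_sup_left h3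
    rw [h4]
    exact (le_sup_right : zpowers c ≤ D ⊔ zpowers c) (mem_zpowers c)
  have hDo := odd_of_le hDB hBo
  have h1 : D ⊓ centralizer (zpowers w : Set Y) ≤ ⁅D, D⁆ := by
    apply inf_centralizer_le
    · rw [zpowers_le]
      exact hND (mem_centralizer_iff'.mpr rfl)
    · exact (coprime_of_odd hDo hw).symm
    · rw [hDD]
  rw [hDab, centralizer_zpowers] at h1
  apply hc1
  exact mem_bot.mp (h1 ⟨hcD, mem_centralizer_iff'.mpr hc⟩)

open Equiv in
/-- an involution of `A₇` is conjugate in `S₇` to `t0`. -/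
theorem exists_conj_t0 {x : Perm (Fin 7)} (hx : x ∈ alternatingGroup (Fin 7)) (h : IsInv x) :
    ∃ g : Perm (Fin 7), g * t0 * g⁻¹ = x := by
  have h1 : IsConj t0 x := by
    rw [Perm.isConj_iff_cycleType_eq]
    have ht : t0.cycleType = {2, 2} := by decide +kernel
    rw [ht]
    -- cycle type of an involution
    have h2 : x ^ 2 = 1 := by rw [sq]; exact h.1
    have h3 : ∀ n ∈ x.cycleType, n = 2 := by
      intro n hn
      have h4 : n ∣ orderOf x := Perm.dvd_of_mem_cycleType hn
      have h5 : n ∣ 2 := dvd_trans h4 (orderOf_dvd_of_pow_eq_one h2)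
      have h6 := Perm.two_le_of_mem_cycleType hn
      exact le_antisymm (Nat.le_of_dvd (by norm_num) h5) h6
    have h4 := Multiset.eq_replicate_of_mem h3
    have h5 : x.cycleType.sum ≤ 7 := by
      rw [Perm.sum_cycleType]
      exact (Finset.card_le_univ _).trans (by simp)
    have h6 : Perm.sign x = 1 := Perm.mem_alternatingGroup.mp hx
    rw [Perm.sign_of_cycleType, h4] at h6
    rw [h4] at h5
    rw [h4]
    have h7 : x.cycleType.card ≠ 0 := by
      intro h8
      exact h.2 (Perm.card_cycleType_eq_zero.mp h8)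
    rw [Multiset.sum_replicate, smul_eq_mul] at h5 h6
    rw [Multiset.card_replicate] at h6
    obtain ⟨k, hk⟩ : ∃ k, k = x.cycleType.card := ⟨_, rfl⟩
    rw [← hk] at h5 h6 h7 ⊢
    have h8 : k ≤ 3 := by omega
    interval_cases k
    · exact absurd rfl h7
    · exact absurd h6 (by decide)
    · rfl
    · exact absurd h6 (by decide)
  obtain ⟨g, hg⟩ := isConj_iff.mp h1
  exact ⟨g, hg⟩

open Equiv in
theorem main {Y : Type*} [Group Y] [Finite Y] {L : Subgroup Y} [hLn : L.Normal]
    (hY : SubDihedral Y) (hC : centralizer (L : Set Y) = ⊥) (e : L ≃* alternatingGroup (Fin 7)) :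
    L = ⊤ ∧ ∀ w : Y, IsInv w → ∀ r : ℕ, r.Prime → r ≠ 2 → ∀ B : Subgroup Y, IsPGroup r B →
      centralizer ({w} : Set Y) ≤ normalizer (B : Set Y) → B ≤ centralizer ({w} : Set Y) := by
  obtain ⟨ψ, hψ⟩ := StandardComponent.AltAut.exists_autHom 7 le_rfl
  obtain ⟨ρ, hρ⟩ : ∃ ρ : Y →* Perm (Fin 7), ∀ (y : Y) (x : L),
      ((e (MulAut.conjNormal y x) : alternatingGroup (Fin 7)) : Perm (Fin 7)) =
        ρ y * (e x : Perm (Fin 7)) * (ρ y)⁻¹ := by
    refine ⟨(ψ.comp (MulAut.congr e).toMonoidHom).comp MulAut.conjNormal, fun y x => ?_⟩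
    have h1 := hψ (MulAut.congr e (MulAut.conjNormal y)) (e x)
    have h2 : (MulAut.congr e (MulAut.conjNormal y)) (e x) = e (MulAut.conjNormal y x) := by
      change e (MulAut.conjNormal y (e.symm (e x))) = _
      rw [e.symm_apply_apply]
    rw [h2] at h1
    exact h1
  -- `ρ` extends `e`
  have hρe : ∀ l : L, ρ l = (e l : Perm (Fin 7)) := by
    intro l
    apply StandardComponent.AltAut.conj_unique (m := 5) (by norm_num)
    intro x
    have h1 := hρ l (e.symm x)
    rw [e.apply_symm_apply] at h1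
    rw [← h1]
    have h2 : MulAut.conjNormal (l : Y) (e.symm x) = l * e.symm x * l⁻¹ := by
      apply Subtype.ext
      rw [MulAut.conjNormal_apply]; rfl
    rw [h2, map_mul, map_mul, map_inv, e.apply_symm_apply]
    rfl
  have hinj : Function.Injective ρ := by
    rw [injective_iff_map_eq_one]
    intro y hy
    have h1 : y ∈ centralizer (L : Set Y) := by
      rw [mem_centralizer_iff]
      intro x hx
      have h2 := hρ y ⟨x, hx⟩
      rw [hy, one_mul, inv_one, mul_one] at h2
      have h3 : MulAut.conjNormal y (⟨x, hx⟩ : L) = ⟨x, hx⟩ := e.injective (Subtype.ext h2)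
      have h4 := congrArg Subtype.val h3
      rw [MulAut.conjNormal_apply] at h4
      change y * x * y⁻¹ = x at h4
      calc x * y = (y * x * y⁻¹) * y := by rw [h4]
        _ = y * x := by group
    rw [hC] at h1
    exact mem_bot.mp h1
  have hle : alternatingGroup (Fin 7) ≤ ρ.range := by
    intro x hx
    refine ⟨(e.symm ⟨x, hx⟩ : L), ?_⟩
    rw [hρe, e.apply_symm_apply]
  have hno : ρ.range ≠ ⊤ := by
    intro htop
    have hs : ∀ z : Perm (Fin 7), ∃ y, ρ y = z := fun z => by
      have : z ∈ ρ.range := by rw [htop]; exact mem_top z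
      exact this
    obtain ⟨a, ha⟩ := hs (swap 0 1)
    obtain ⟨b, hb⟩ := hs (swap 2 3)
    obtain ⟨c, hc⟩ := hs (swap 4 5)
    have inv : ∀ (y : Y) (z : Perm (Fin 7)), ρ y = z → z * z = 1 → z ≠ 1 → IsInv y := by
      intro y z hyz h1 h2
      constructor
      · apply hinj
        rw [map_mul, hyz, h1, map_one]
      · rintro rfl
        rw [map_one] at hyz
        exact h2 hyz.symm
    have com : ∀ (y y' : Y) (z z' : Perm (Fin 7)), ρ y = z → ρ y' = z' → z * z' = z' * z →
        y * y' = y' * y := by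
      intro y y' z z' h1 h2 h3
      apply hinj
      rw [map_mul, map_mul, h1, h2, h3]
    rcases SigPSL.no_three hY (inv a _ ha (by decide +kernel) (by decide +kernel))
      (inv b _ hb (by decide +kernel) (by decide +kernel))
      (inv c _ hc (by decide +kernel) (by decide +kernel))
      (com a b _ _ ha hb (by decide +kernel)) (com a c _ _ ha hc (by decide +kernel))
      (com b c _ _ hb hc (by decide +kernel)) (by
        rintro rfl
        rw [ha] at hb
        exact absurd hb (by decide +kernel)) with h | h | h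
    · rw [h, ha] at hc
      exact absurd hc (by decide +kernel)
    · rw [h, hb] at hc
      exact absurd hc (by decide +kernel)
    · rw [h, map_mul, ha, hb] at hc
      exact absurd hc (by decide +kernel)
  have hrange : ρ.range = alternatingGroup (Fin 7) := by
    by_contra hne
    apply hno
    have h1 : (alternatingGroup (Fin 7)).index = 2 := alternatingGroup.index_eq_two
    have h2 := relIndex_mul_index hle
    rw [h1] at h2
    have h3 : ρ.range.index ∣ 2 := Dvd.intro_left _ h2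
    rcases (Nat.dvd_prime Nat.prime_two).mp h3 with h4 | h4
    · exact index_eq_one.mp h4
    · rw [h4] at h2
      exfalso
      apply hne
      have h5 : (alternatingGroup (Fin 7)).relIndex ρ.range = 1 := by omega
      exact le_antisymm (relIndex_eq_one.mp h5) hle
  have hL : L = ⊤ := by
    rw [eq_top_iff]
    intro y _
    have h1 : ρ y ∈ alternatingGroup (Fin 7) := by
      rw [← hrange]; exact ⟨y, rfl⟩
    have h2 : ρ y = ρ ((e.symm ⟨ρ y, h1⟩ : L) : Y) := by
      rw [hρe, e.apply_symm_apply]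
    rw [hinj h2]
    exact (e.symm ⟨ρ y, h1⟩).2
  have hcard : Nat.card Y = 2520 := by
    rw [← TwoFusion.A7NoSwap.card_A7, ← Nat.card_congr e.toEquiv, hL]
    exact (Nat.card_congr topEquiv.toEquiv).symm
  refine ⟨hL, ?_⟩
  intro w hw r hr hr2 B hB hN
  have hρw : ρ w ∈ alternatingGroup (Fin 7) := by rw [← hrange]; exact ⟨w, rfl⟩
  obtain ⟨g, hg⟩ := exists_conj_t0 hρw ⟨by rw [← map_mul, hw.1, map_one], fun h => hw.2 (hinj (by
    rw [h, map_one]))⟩
  have lift : ∀ z : Perm (Fin 7), z ∈ alternatingGroup (Fin 7) → ∃ y, ρ y = g * z * g⁻¹ := by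
    intro z hz
    have h1 : g * z * g⁻¹ ∈ alternatingGroup (Fin 7) :=
      (inferInstance : (alternatingGroup (Fin 7)).Normal).conj_mem z hz g
    rw [← hrange] at h1
    exact h1
  obtain ⟨a, ha⟩ := lift v1 (Perm.mem_alternatingGroup.mpr (by decide +kernel))
  obtain ⟨b, hb⟩ := lift v3 (Perm.mem_alternatingGroup.mpr (by decide +kernel))
  obtain ⟨c, hc⟩ := lift c0 (Perm.mem_alternatingGroup.mpr (by decide +kernel))
  have com : ∀ (y : Y) (z : Perm (Fin 7)), ρ y = g * z * g⁻¹ → z * t0 = t0 * z →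
      y * w = w * y := by
    intro y z h1 h2
    apply hinj
    rw [map_mul, map_mul, h1, ← hg]
    calc g * z * g⁻¹ * (g * t0 * g⁻¹) = g * (z * t0) * g⁻¹ := by group
      _ = g * (t0 * z) * g⁻¹ := by rw [h2]
      _ = g * t0 * g⁻¹ * (g * z * g⁻¹) := by group
  refine le_centralizer_of_data hcard hw (com a _ ha (by decide +kernel))
    (com b _ hb (by decide +kernel)) ?_ (com c _ hc (by decide +kernel)) ?_ ?_ hr hr2 hB hN
  · apply hinj
    rw [map_mul, map_mul, map_mul, map_inv, map_inv, ha, hb, ← hg]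
    have h1 : v1 * v3 * v1⁻¹ * v3⁻¹ = t0 := by decide +kernel
    rw [← h1]; group
  · apply hinj
    rw [map_pow, hc, map_one, conj_pow]
    have h1 : c0 ^ 3 = 1 := by decide +kernel
    rw [h1]; group
  · rintro rfl
    rw [map_one] at hc
    have h1 : c0 = 1 := by
      calc c0 = g⁻¹ * (g * c0 * g⁻¹) * g := by group
        _ = 1 := by rw [← hc]; group
    exact absurd h1 (by decide +kernel)

end Cfsg.Agent.Classification.TypeB.SigA7
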